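import Cfsg.Agent.KSG55.Pres.HomOf

/-! The criterion for a group generated by images of two presented groups. -/

set_option autoImplicit false

namespace Cfsg.Agent.KSG55.U6

open Cfsg.Agent.KSG55.Pres

variable {S A : Type*}

/-- The value of a word in the two factors. -/
def ev {H : Type*} [Monoid H] (θ : S → H) (π : A → H) (l : List (S ⊕ A)) : H := (l.map (Sum.elim θ π)).prod

@[simp] theorem ev_nil {H : Type*} [Monoid H] (θ : S → H) (π : A → H) : ev θ π [] = 1 := rfl

@[simp] theorem ev_inl {H : Type*} [Monoid H] (θ : S → H) (π : A → H) (s : S) (l : List (S ⊕ A)) :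
    ev θ π (Sum.inl s :: l) = θ s * ev θ π l := rfl

@[simp] theorem ev_inr {H : Type*} [Monoid H] (θ : S → H) (π : A → H) (a : A) (l : List (S ⊕ A)) :
    ev θ π (Sum.inr a :: l) = π a * ev θ π l := rfl

theorem map_ev {H H' : Type*} [Monoid H] [Monoid H'] (f : H →* H') (θ : S → H) (π : A → H) (l : List (S ⊕ A)) :
    f (ev θ π l) = ev (fun s => f (θ s)) (fun a => f (π a)) l := by
  induction l with
  | nil => simp
  | cons x l ih => cases x <;> simp [ih]

variable [Group S] [Group A] {G : Type*} [Group G]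

/-- Gluing two presentations along a list of equations between words. -/
theorem presOn_two_factor {k r l s : ℕ} {gS : Fin k → S} (hS : PresOn gS r) {gA : Fin l → A} (hA : PresOn gA s)
    (Θ : S →* G) (Pm : A →* G) (Rs : List (List (S ⊕ A) × List (S ⊕ A)))
    (hmodel : ∀ p ∈ Rs, ev Θ Pm p.1 = ev Θ Pm p.2) (hgen : Θ.range ⊔ Pm.range = ⊤)
    (hinj : ∀ (H : Type) [Group H] (θ : S →* H) (π : A →* H) (φ : H →* G), θ.range ⊔ π.range = ⊤ →
      φ.comp θ = Θ → φ.comp π = Pm → (∀ p ∈ Rs, ev θ π p.1 = ev θ π p.2) → ∀ x, φ x = 1 → x = 1) :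
    PresOn (Fin.append (fun i => Θ (gS i)) (fun i => Pm (gA i))) (r + s + Rs.length) := by
  classical
  obtain ⟨LS, hLS, hLSrel, hLStop, hLShom⟩ := hS.exists_hom
  obtain ⟨LA, hLA, hLArel, hLAtop, hLAhom⟩ := hA.exists_hom
  set g := Fin.append (fun i => Θ (gS i)) (fun i => Pm (gA i)) with hg
  let cS : FreeGroup (Fin k) →* FreeGroup (Fin (k + l)) := FreeGroup.map (Fin.castAdd l)
  let cA : FreeGroup (Fin l) →* FreeGroup (Fin (k + l)) := FreeGroup.map (Fin.natAdd k)
  have hwS : ∀ x, ∃ W, FreeGroup.lift gS W = x := fun x => by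
    rw [← MonoidHom.mem_range, FreeGroup.range_lift_eq_closure, hLStop]; trivial
  choose WS hWS using hwS
  have hwA : ∀ x, ∃ W, FreeGroup.lift gA W = x := fun x => by
    rw [← MonoidHom.mem_range, FreeGroup.range_lift_eq_closure, hLAtop]; trivial
  choose WA hWA using hwA
  let zS : S → FreeGroup (Fin (k + l)) := fun x => cS (WS x)
  let zA : A → FreeGroup (Fin (k + l)) := fun x => cA (WA x)
  have mS : ∀ w, FreeGroup.lift g (cS w) = Θ (FreeGroup.lift gS w) := fun w =>
    DFunLike.congr_fun (FreeGroup.ext_hom ((FreeGroup.lift g).comp cS) (Θ.comp (FreeGroup.lift gS))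
      fun i => by simp [cS, hg]) w
  have mA : ∀ w, FreeGroup.lift g (cA w) = Pm (FreeGroup.lift gA w) := fun w =>
    DFunLike.congr_fun (FreeGroup.ext_hom ((FreeGroup.lift g).comp cA) (Pm.comp (FreeGroup.lift gA))
      fun i => by simp [cA, hg]) w
  refine presOn_of_inj g (LS.map cS ++ LA.map cA ++ Rs.map fun p => ev zS zA p.1 * (ev zS zA p.2)⁻¹) ?_ ?_ ?_ ?_
  · simp only [List.length_append, List.length_map]; omega
  · intro w hw
    simp only [List.mem_append, List.mem_map] at hw
    rcases hw with (⟨v, hv, rfl⟩ | ⟨v, hv, rfl⟩) | ⟨p, hp, rfl⟩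
    · rw [mS, hLSrel v hv, map_one]
    · rw [mA, hLArel v hv, map_one]
    · rw [map_mul, map_inv, map_ev, map_ev, mul_inv_eq_one]
      simp only [zS, zA, mS, mA, hWS, hWA]
      exact hmodel p hp
  · rw [eq_top_iff, ← hgen]
    refine sup_le ?_ ?_
    · rw [MonoidHom.range_eq_map, ← hLStop, MonoidHom.map_closure, Subgroup.closure_le]
      rintro _ ⟨_, ⟨i, rfl⟩, rfl⟩
      exact Subgroup.subset_closure ⟨Fin.castAdd l i, by simp [hg]⟩
    · rw [MonoidHom.range_eq_map, ← hLAtop, MonoidHom.map_closure, Subgroup.closure_le]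
      rintro _ ⟨_, ⟨i, rfl⟩, rfl⟩
      exact Subgroup.subset_closure ⟨Fin.natAdd k i, by simp [hg]⟩
  · intro H _ U φ hU hrel hφ x hx
    have lS : ∀ w, FreeGroup.lift U (cS w) = FreeGroup.lift (fun i => U (Fin.castAdd l i)) w := fun w =>
      DFunLike.congr_fun (FreeGroup.ext_hom ((FreeGroup.lift U).comp cS) _ fun i => by simp [cS]) w
    have lA : ∀ w, FreeGroup.lift U (cA w) = FreeGroup.lift (fun i => U (Fin.natAdd k i)) w := fun w =>
      DFunLike.congr_fun (FreeGroup.ext_hom ((FreeGroup.lift U).comp cA) _ fun i => by simp [cA]) w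
    obtain ⟨θ, hθ⟩ := hLShom H (fun i => U (Fin.castAdd l i)) fun w hw => by
      rw [← lS]; exact hrel _ (by simp only [List.mem_append, List.mem_map]; exact Or.inl (Or.inl ⟨w, hw, rfl⟩))
    obtain ⟨π, hπ⟩ := hLAhom H (fun i => U (Fin.natAdd k i)) fun w hw => by
      rw [← lA]; exact hrel _ (by simp only [List.mem_append, List.mem_map]; exact Or.inl (Or.inr ⟨w, hw, rfl⟩))
    have eS : ∀ a, FreeGroup.lift U (zS a) = θ a := fun a => by
      simp only [zS]; rw [lS]
      conv_rhs => rw [← hWS a]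
      exact (DFunLike.congr_fun (FreeGroup.ext_hom (θ.comp (FreeGroup.lift gS))
        (FreeGroup.lift fun i => U (Fin.castAdd l i)) fun i => by simp [hθ]) _).symm
    have eA : ∀ a, FreeGroup.lift U (zA a) = π a := fun a => by
      simp only [zA]; rw [lA]
      conv_rhs => rw [← hWA a]
      exact (DFunLike.congr_fun (FreeGroup.ext_hom (π.comp (FreeGroup.lift gA))
        (FreeGroup.lift fun i => U (Fin.natAdd k i)) fun i => by simp [hπ]) _).symm
    refine hinj H θ π φ ?_ ?_ ?_ (fun p hp => ?_) x hx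
    · rw [eq_top_iff, ← hU, Subgroup.closure_le]
      rintro _ ⟨i, rfl⟩
      induction i using Fin.addCases with
      | left i => exact Subgroup.mem_sup_left ⟨gS i, hθ i⟩
      | right i => exact Subgroup.mem_sup_right ⟨gA i, hπ i⟩
    · refine MonoidHom.eq_of_eqOn_dense hLStop ?_
      rintro _ ⟨i, rfl⟩
      simp [hθ, hφ, hg]
    · refine MonoidHom.eq_of_eqOn_dense hLAtop ?_
      rintro _ ⟨i, rfl⟩
      simp [hπ, hφ, hg]
    · have h1 := hrel (ev zS zA p.1 * (ev zS zA p.2)⁻¹)
        (List.mem_append_right _ (List.mem_map.mpr ⟨p, hp, rfl⟩))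
      rw [map_mul, map_inv, map_ev, map_ev, mul_inv_eq_one] at h1
      simpa only [eS, eA] using h1

end Cfsg.Agent.KSG55.U6
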