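import Cfsg.Agent.KSG55.U6.Perm
import Cfsg.Agent.KSG55.Phan.Step

/-! Generation of `SU₃(2)` and `SU₄(q)`. -/

set_option autoImplicit false
set_option linter.unusedSectionVars false

namespace Cfsg.Agent.KSG55.U6

open Equiv Cfsg.Agent.Unitary Cfsg.Agent.KSG55.Pres Cfsg.Agent.KSG55.Phan
open Cfsg.Agent.KSG55.SUStep (exists_fixS_one exists_norm_one_perp exists_split orth_one orth_two orth_three)

variable {F : Type*} [Field F] [Fintype F] {q : ℕ} (hF : Fintype.card F = q ^ 2)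

include hF

theorem two_eq_zero (hq : q = 2) : (2 : F) = 0 := by
  have h := FiniteField.cast_card_eq_zero F
  rw [hF, hq] at h
  push_cast at h
  exact pow_eq_zero_iff (n := 2) (by norm_num) |>.mp (by linear_combination h)

theorem neg_eq_self (hq : q = 2) (x : F) : -x = x := by
  linear_combination (-x) * two_eq_zero hF hq

theorem cube_eq_one (hq : q = 2) {x : F} (hx : x ≠ 0) : x ^ (q + 1) = 1 := by
  have := FiniteField.pow_card_sub_one_eq_one x hx
  rw [hF, hq] at this
  rw [hq]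
  simpa using this

/-- A diagonal element of `SU₂`. -/
def d2 (c : F) (hc : c ^ (q + 1) = 1) : SU 2 F q :=
  dg ![c, c⁻¹] (fun i => by fin_cases i <;> simp [hc]) (by simp [Fin.prod_univ_two, ne_zero_of_norm hc])

theorem su2_two (hq : q = 2) (X : SU 2 F q) :
    ∃ c, ∃ hc : c ^ (q + 1) = 1, X = d2 c hc ∨ X = W hF * d2 c hc := by
  obtain ⟨-, -, h⟩ := su2_shape hF X
  by_cases h1 : mat X 0 1 = 0
  · have h0 : mat X 0 0 ≠ 0 := fun e => by
      rw [e, h1, zero_pow (by omega)] at h; simp at h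
    refine ⟨mat X 0 0, cube_eq_one hF hq h0, Or.inl (su2_ext hF ?_ ?_)⟩
    · show _ = Matrix.diagonal _ 0 0; simp
    · show _ = Matrix.diagonal _ 0 1; simp [h1]
  · have h0 : mat X 0 0 = 0 := by
      by_contra e
      rw [cube_eq_one hF hq e, cube_eq_one hF hq h1] at h
      exact one_ne_zero (show (1 : F) = 0 by linear_combination h)
    have hn := cube_eq_one hF hq (x := -(mat X 0 1)⁻¹) (neg_ne_zero.mpr (inv_ne_zero h1))
    refine ⟨-(mat X 0 1)⁻¹, hn, Or.inr (su2_ext hF ?_ ?_)⟩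
    · show _ = (mat (W hF) * Matrix.diagonal ![-(mat X 0 1)⁻¹, (-(mat X 0 1)⁻¹)⁻¹] : Matrix (Fin 2) (Fin 2) F) 0 0
      rw [Matrix.mul_diagonal]
      show _ = (!![(0 : F), -1; -(-1) ^ q, 0 ^ q]) 0 0 * _
      simp [h0]
    · show _ = (mat (W hF) * Matrix.diagonal ![-(mat X 0 1)⁻¹, (-(mat X 0 1)⁻¹)⁻¹] : Matrix (Fin 2) (Fin 2) F) 0 1
      rw [Matrix.mul_diagonal]
      show _ = (!![(0 : F), -1; -(-1) ^ q, 0 ^ q]) 0 1 * _
      simp [inv_neg, inv_inv]

/-- The twist by a norm one scalar on the first coordinate. -/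
def tw0 (w : F) (hw : w ^ (q + 1) = 1) : SU 3 F q →* SU 3 F q :=
  twist (RingEquiv.refl F) ![w, 1, 1] fun i => by fin_cases i <;> simp [hw]

/-- The base element of `SU₃(2)`. -/
theorem exists_tt (hq : q = 2) : ∃ t : SU 3 F q, t • (eI 0 : Fin 3 → F) = fun _ => 1 := by
  obtain ⟨t, -, ht⟩ := exists_fixS_one hF (n := 3) (S := ∅) (by decide) (x := eI 0) (x' := fun _ => (1 : F))
    (fun i hi => absurd hi (by simp)) (fun i hi => absurd hi (by simp)) (by rw [herm_eI_eI hF, if_pos rfl]) (by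
      rw [herm, hermForm, Fin.sum_univ_three, one_pow, one_mul]; linear_combination two_eq_zero hF hq)
  exact ⟨t, ht⟩

/-- Generation of `SU₃(2)` by monomial elements, one further element and the outer twist. -/
theorem su3_two_top (hq : q = 2) {t : SU 3 F q} (ht : t • (eI 0 : Fin 3 → F) = fun _ => 1) (P : Subgroup (SU 3 F q))
    (hd : ∀ d hd hp, dg d hd hp ∈ P) (h0 : bl 3 2 0 (W hF) ∈ P) (h1 : bl 3 2 1 (W hF) ∈ P)
    (htP : ∀ w hw, tw0 w hw t ∈ P) : P = ⊤ := by
  rw [eq_top_iff]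
  intro g _
  have hm : ∀ x : Fin 3 → F, (∃ A ∈ P, A • (eI 0 : Fin 3 → F) = x) ↔ ∃ A ∈ P, A • (eI 0 : Fin 3 → F) = x := fun x =>
    Iff.rfl
  set v := g • (eI 0 : Fin 3 → F) with hv
  have hvn : herm q v v = 1 := by rw [hv, herm_smul_SU, herm_eI_eI hF, if_pos rfl]
  obtain ⟨A, hA, hAv⟩ : ∃ A ∈ P, A • (eI 0 : Fin 3 → F) = v := by
    have e : ∀ i, v i ≠ 0 → v i * v i ^ q = 1 := fun i hi => by rw [← pow_succ', cube_eq_one hF hq hi]
    rw [herm, hermForm, Fin.sum_univ_three] at hvn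
    have h20 := two_eq_zero hF hq
    have mk : ∀ (c : F), c ≠ 0 → ∃ D ∈ P, D • (eI 0 : Fin 3 → F) = c • eI 0 := fun c hc => by
      have hn := cube_eq_one hF hq hc
      refine ⟨_, hd ![c, c⁻¹, 1] (fun i => by fin_cases i <;> simp [hn]) (by simp [Fin.prod_univ_three, hc]), ?_⟩
      rw [dg_smul_eI]; rfl
    by_cases a : v 0 = 0 <;> by_cases b : v 1 = 0 <;> by_cases c : v 2 = 0
    · exfalso; rw [a, b, c] at hvn; simp at hvn
    · obtain ⟨D, hD, hDe⟩ := mk (v 2) c
      refine ⟨bl 3 2 1 (W hF) * bl 3 2 0 (W hF) * D, mul_mem (mul_mem h1 h0) hD, ?_⟩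
      rw [mul_smul, mul_smul, hDe, lineSmul, W0_smul, lineSmul, W1_smul]
      funext i; fin_cases i <;> simp [eI, a, b]
    · obtain ⟨D, hD, hDe⟩ := mk (v 1) b
      refine ⟨bl 3 2 0 (W hF) * D, mul_mem h0 hD, ?_⟩
      rw [mul_smul, hDe, lineSmul, W0_smul]
      funext i; fin_cases i <;> simp [eI, a, c]
    · exfalso
      rw [a, zero_mul, e 1 b, e 2 c] at hvn
      exact one_ne_zero (show (1 : F) = 0 by linear_combination -hvn + h20)
    · obtain ⟨D, hD, hDe⟩ := mk (v 0) a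
      refine ⟨D, hD, ?_⟩
      rw [hDe]; funext i; fin_cases i <;> simp [eI, b, c]
    · exfalso
      rw [b, zero_mul, e 0 a, e 2 c] at hvn
      exact one_ne_zero (show (1 : F) = 0 by linear_combination -hvn + h20)
    · exfalso
      rw [c, zero_mul, e 0 a, e 1 b] at hvn
      exact one_ne_zero (show (1 : F) = 0 by linear_combination -hvn + h20)
    · set u := v 0 * v 1 * v 2 with hu
      have hu0 : u ≠ 0 := mul_ne_zero (mul_ne_zero a b) c
      have hun := cube_eq_one hF hq hu0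
      set T := tw0 u hun t with hT
      have hTe : T • (eI 0 : Fin 3 → F) = fun i => u⁻¹ * (![u, 1, 1] : Fin 3 → F) i := by
        have h := twist_tvec (RingEquiv.refl F) (d := (![u, 1, 1] : Fin 3 → F))
          (fun i => by fin_cases i <;> simp [hun]) t (eI 0)
        rw [ht, show tvec (RingEquiv.refl F) (![u, 1, 1] : Fin 3 → F) (eI 0) = u • eI 0 from funext fun i => by
          fin_cases i <;> simp [tvec, eI]] at h
        rw [hT, tw0, show (eI 0 : Fin 3 → F) = u⁻¹ • (u • eI 0) by rw [smul_smul, inv_mul_cancel₀ hu0, one_smul],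
          lineSmul, h]
        funext i; simp [tvec]
      have hdn : ∀ i, (![v 0, v 1 * u, v 2 * u] : Fin 3 → F) i ^ (q + 1) = 1 := fun i => by
        fin_cases i <;> simp [mul_pow, cube_eq_one hF hq a, cube_eq_one hF hq b, cube_eq_one hF hq c, hun]
      refine ⟨dg _ hdn ?_ * T, mul_mem (hd _ _ _) (htP u hun), ?_⟩
      · simp [Fin.prod_univ_three]
        rw [hq] at hun
        linear_combination hun + (v 0 * v 1 * v 2 * u * u - u ^ (2 + 1)) + u * u * hu
      · rw [mul_smul, hTe, dg_smul]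
        funext i
        fin_cases i <;> simp <;> field_simp
  have hfix : ∀ j : Fin 3, (j : ℕ) < 1 ∨ 1 + 2 ≤ (j : ℕ) → (A⁻¹ * g) • (eI j : Fin 3 → F) = eI j := fun j hj => by
    obtain rfl : j = 0 := by omega
    rw [mul_smul, inv_smul_eq_iff, hAv]
  obtain ⟨X, hX⟩ := exists_bl hF (k := 1) (a := 2) (b := 3) (by norm_num) hfix
  have hXP : bl 3 2 1 X ∈ P := by
    have hdc : ∀ c hc, bl 3 2 1 (d2 c hc) ∈ P := fun c hc => by
      have : (bl 3 2 1 (d2 c hc) : SU 3 F q) = dg ![1, c, c⁻¹] (fun i => by fin_cases i <;> simp [hc])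
          (by simp [Fin.prod_univ_three, ne_zero_of_norm hc]) := by
        refine eq_of_smul_eq_SU fun w => ext_parts (shift 1 (show 1 + 2 ≤ 3 by norm_num)) (fun i => ?_) fun j hj => ?_
        · rw [bl_smul_in, d2, dg_smul, dg_smul]
          fin_cases i <;> rfl
        · rw [bl_eq (show 1 + 2 ≤ 3 by norm_num), emap_off _ _ _ hj, dg_smul]
          fin_cases j
          · simp
          · exact absurd rfl (hj 0)
          · exact absurd rfl (hj 1)
      rw [this]; exact hd _ _ _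
    obtain ⟨c, hc, rfl | rfl⟩ := su2_two hF hq X
    · exact hdc c hc
    · rw [map_mul]; exact mul_mem h1 (hdc c hc)
  rw [hX] at hXP
  simpa using mul_mem hA hXP

/-- Generation of `SU₄` by a three dimensional block and permutations. -/
theorem su4_top (P : Subgroup (SU 4 F q)) (h0 : ∀ Y, bl 4 3 1 Y ∈ P) {s : SU 4 F q} (hs : s ∈ P)
    (hs0 : s • (eI 0 : Fin 4 → F) = eI 1) : P = ⊤ := by
  rw [eq_top_iff]
  intro g _
  have e0 : herm q (eI 0) (eI 0 : Fin 4 → F) = 1 := by rw [herm_eI_eI hF, if_pos rfl]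
  have fix : ∀ A : SU 4 F q, A • (eI 0 : Fin 4 → F) = eI 0 → A ∈ P := fun A hA => by
    obtain ⟨Y, rfl⟩ := exists_bl hF (k := 1) (a := 3) (b := 4) (by norm_num) (g := A) fun j hj => by
      obtain rfl : j = 0 := by omega
      exact hA
    exact h0 Y
  have step : ∀ z : Fin 4 → F, herm q z z = 1 → herm q z (eI 0) = 0 → ∃ A ∈ P, A • (eI 0 : Fin 4 → F) = z := by
    intro z hz hz0
    obtain ⟨A, hA, hAe⟩ := exists_fixS_one hF (n := 4) (S := {0}) (by decide) (x := eI 1) (x' := z)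
      (eI_mem_supp (by decide)) (fun i hi => by rw [Finset.mem_singleton.1 hi, ← herm_eI_right hF 0 z]; exact hz0)
      (by rw [herm_eI_eI hF, if_pos rfl]) hz
    exact ⟨A * s, mul_mem (fix A (mem_fixS.1 hA 0 (by simp))) hs, by rw [mul_smul, hs0, hAe]⟩
  set v := g • (eI 0 : Fin 4 → F) with hv
  have hvv : herm q v v = 1 := by rw [hv, herm_smul_SU, e0]
  obtain ⟨z, hz, hzv, hz0⟩ : ∃ z, herm q z z = 1 ∧ herm q z v = 0 ∧ herm q z (eI 0) = 0 := by
    obtain ⟨h1, h2⟩ : herm q (v - herm q v (eI 0) • eI 0) (v - herm q v (eI 0) • eI 0) =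
        herm q v v - herm q v (eI 0) ^ (q + 1) ∧ herm q (v - herm q v (eI 0) • eI 0) (eI 0) = 0 := by
      refine ⟨?_, by rw [herm_sub_left, herm_smul_left, e0, mul_one, sub_self]⟩
      rw [herm_sub_left, herm_sub_right hF, herm_sub_right hF, herm_smul_left, herm_smul_left, herm_smul_right hF,
        herm_smul_right hF, e0, herm_swap hF v (eI 0), pow_succ]
      ring
    rw [hvv] at h1
    by_cases hn : herm q v (eI 0) ^ (q + 1) = 1
    · rw [hn, sub_self] at h1
      by_cases hP : v - herm q v (eI 0) • eI 0 = 0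
      · obtain ⟨z, hz, hzo⟩ := exists_norm_one_perp hF (n := 4) (orth_one hF (x := eI 0) (by rw [e0]; exact one_ne_zero))
          (by norm_num)
        refine ⟨z, hz, ?_, hzo 0⟩
        rw [sub_eq_zero.1 hP, herm_smul_right hF, show herm q z (eI 0) = 0 from hzo 0, mul_zero]
      obtain ⟨x, y, hxy, hxx, hyy, hxy0, hxp, hyp⟩ := exists_split hF (orth_one hF (by rw [e0]; exact one_ne_zero))
        h1 hP (fun i => by rw [Subsingleton.elim i 0]; exact h2)
      obtain ⟨z, hz, hzo⟩ := exists_norm_one_perp hF (n := 4) (orth_three hF (x := eI 0) (y := x) (z := y)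
        (by rw [e0]; exact one_ne_zero) (by rw [hxx]; exact one_ne_zero) (by rw [hyy]; simp)
        ((herm_eq_zero_comm hF).1 (hxp 0)) ((herm_eq_zero_comm hF).1 (hyp 0)) hxy0) (by norm_num)
      refine ⟨z, hz, ?_, hzo 0⟩
      rw [show v = herm q v (eI 0) • eI 0 + (x + y) by rw [← hxy, add_sub_cancel],
        herm_add_right hF, herm_smul_right hF, herm_add_right hF, show herm q z (eI 0) = 0 from hzo 0,
        show herm q z x = 0 from hzo 1, show herm q z y = 0 from hzo 2]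
      simp
    · obtain ⟨z, hz, hzo⟩ := exists_norm_one_perp hF (n := 4) (orth_two hF
        (y := v - herm q v (eI 0) • eI 0) (x := eI 0) (by rw [e0]; exact one_ne_zero)
        (by rw [h1, sub_ne_zero]; exact Ne.symm hn) ((herm_eq_zero_comm hF).1 h2)) (by norm_num)
      have z0' : herm q z (eI 0) = 0 := hzo 0
      have z1' : herm q z (v - herm q v (eI 0) • eI 0) = 0 := hzo 1
      refine ⟨z, hz, ?_, z0'⟩
      rwa [herm_sub_right hF, herm_smul_right hF, z0', mul_zero, sub_zero] at z1'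
  obtain ⟨A, hA, hAz⟩ := step z hz hz0
  obtain ⟨B, hB, hBv⟩ := step (A⁻¹ • v) (by rw [herm_smul_SU, hvv]) (by
    rw [← herm_smul_SU A, smul_inv_smul, hAz, herm_eq_zero_comm hF]; exact hzv)
  have := mul_mem (mul_mem hA hB) (fix ((A * B)⁻¹ * g) (by rw [mul_smul, inv_smul_eq_iff, ← hv, mul_smul, hBv, smul_inv_smul]))
  rwa [mul_inv_cancel_left] at this

end Cfsg.Agent.KSG55.U6
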