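import Cfsg.Agent.KSG55.U6.TwoStep
import Cfsg.Agent.KSG55.Herm.Four

/-! Six generators over the field with four elements. -/

set_option autoImplicit false
set_option linter.unusedSectionVars false
set_option linter.style.haveILetI false

namespace Cfsg.Agent.KSG55.U6

open Equiv Cfsg.Agent.Unitary Cfsg.Agent.KSG55.Pres Cfsg.Agent.KSG55.Phan Cfsg.Agent.KSG55.SLn

universe u v

variable {F : Type u} [Field F] [Fintype F] {n q : ℕ}

/-- An embedded permutation. -/
theorem emap_permSU {a : ℕ} (f : Fin a ↪ Fin n) {σ : alternatingGroup (Fin a)} {τ : alternatingGroup (Fin n)}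
    (h : ∀ i, (τ : Perm (Fin n)) (f i) = f ((σ : Perm (Fin a)) i))
    (h' : ∀ j, (∀ i, f i ≠ j) → (τ : Perm (Fin n)) j = j) :
    (emap f (permSU σ : SU a F q) : SU n F q) = permSU τ := by
  refine eq_of_smul_eq_SU fun v => ext_parts f (fun i => ?_) fun j hj => ?_
  · obtain ⟨l, rfl⟩ := (σ : Perm (Fin a)).surjective i
    rw [emap_apply, permSU_smul, permSU_smul, Equiv.symm_apply_apply, ← h, Equiv.symm_apply_apply, Function.comp_apply]
  · rw [emap_off _ _ _ hj, permSU_smul]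
    congr 1
    rw [eq_comm, Equiv.symm_apply_eq, h' j hj]

/-- Generators of the even permutations fixing the first three points. -/
theorem alphas3 (hn5 : 5 ≤ n) : ∃ αs : List (alternatingGroup (Fin n)), αs.length ≤ 1 ∧
    (∀ α ∈ αs, ∀ i, (α : Perm (Fin n)) (p3 (show 4 ≤ n by omega) i) = p3 (show 4 ≤ n by omega) i) ∧
    ∀ τ : alternatingGroup (Fin n), (∀ i, (τ : Perm (Fin n)) (p3 (show 4 ≤ n by omega) i) = p3 (show 4 ≤ n by omega) i) →
      τ ∈ Subgroup.closure ({x | x ∈ αs} ∪ {x | ∃ y ∈ αs, x = dlt hn5 * y * (dlt hn5)⁻¹}) := by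
  classical
  obtain ⟨m, rfl⟩ : ∃ m, n = m + 1 := ⟨n - 1, by omega⟩
  have hm : 4 ≤ m := by omega
  obtain ⟨αs, h1, -, hfix, hgen⟩ := alphas hm
  have hmul : ∀ σ τ : Perm (Fin m), Perm.decomposeFin.symm (0, σ * τ) =
      Perm.decomposeFin.symm (0, σ) * Perm.decomposeFin.symm (0, τ) := fun σ τ => Equiv.ext fun x => by
    induction x using Fin.cases with
    | zero => simp
    | succ i => simp
  let up : alternatingGroup (Fin m) →* alternatingGroup (Fin (m + 1)) :=
    MonoidHom.mk' (fun σ => ⟨Perm.decomposeFin.symm (0, (σ : Perm (Fin m))), by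
      rw [Perm.mem_alternatingGroup, Perm.decomposeFin.symm_sign, if_pos rfl, one_mul]
      exact Perm.mem_alternatingGroup.mp σ.2⟩) fun σ τ => Subtype.ext (hmul _ _)
  have up0 : ∀ σ, (up σ : Perm (Fin (m + 1))) 0 = 0 := fun σ => Perm.decomposeFin_symm_apply_zero _ _
  have upS : ∀ σ i, (up σ : Perm (Fin (m + 1))) (Fin.succ i) = Fin.succ ((σ : Perm (Fin m)) i) := fun σ i => by
    show Perm.decomposeFin.symm (0, (σ : Perm (Fin m))) (Fin.succ i) = _
    rw [Perm.decomposeFin_symm_apply_succ, swap_self]; rfl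
  have e1 : p3 (show 4 ≤ m + 1 by omega) 1 = Fin.succ (Glue.o0 hm) := Fin.ext (by simp [shift_val])
  have e2 : p3 (show 4 ≤ m + 1 by omega) 2 = Fin.succ (Glue.o1 hm) := Fin.ext (by simp [shift_val])
  have e0 : p3 (show 4 ≤ m + 1 by omega) 0 = 0 := Fin.ext (by simp [shift_val])
  have hb : up (Glue.beta hm) = dlt hn5 := by
    refine Subtype.ext (Equiv.ext fun x => ?_)
    induction x using Fin.cases with
    | zero =>
      rw [up0]
      simp only [dlt, Perm.mul_apply]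
      rw [swap_apply_of_ne_of_ne (a := (⟨3, by omega⟩ : Fin (m + 1))) (by simp [Fin.ext_iff]) (by simp [Fin.ext_iff]),
        swap_apply_of_ne_of_ne (by simp [Fin.ext_iff]) (by simp [Fin.ext_iff])]
    | succ i =>
      rw [upS]
      show Fin.succ (swap (Glue.o0 hm) (Glue.o1 hm) (swap (Glue.o2 hm) (Glue.o3 hm) i)) = _
      rw [(Fin.succ_injective _).map_swap, (Fin.succ_injective _).map_swap]
      rfl
  refine ⟨αs.map up, by rwa [List.length_map], fun α hα i => ?_, fun τ hτ => ?_⟩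
  · obtain ⟨y, hy, rfl⟩ := List.mem_map.1 hα
    fin_cases i
    · show (up y : Perm (Fin (m + 1))) (p3 _ 0) = p3 _ 0
      rw [e0, up0]
    · show (up y : Perm (Fin (m + 1))) (p3 _ 1) = p3 _ 1
      rw [e1, upS, (hfix y hy).1]
    · show (up y : Perm (Fin (m + 1))) (p3 _ 2) = p3 _ 2
      rw [e2, upS, (hfix y hy).2]
  · obtain ⟨p, e, hpe⟩ : ∃ p e, (τ : Perm (Fin (m + 1))) = Perm.decomposeFin.symm (p, e) :=
      ⟨_, _, (Equiv.symm_apply_apply Perm.decomposeFin _).symm⟩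
    have hp : p = 0 := by
      have := hτ 0
      rwa [e0, hpe, Perm.decomposeFin_symm_apply_zero] at this
    subst hp
    have hs : ∀ i, (τ : Perm (Fin (m + 1))) (Fin.succ i) = Fin.succ (e i) := fun i => by
      rw [hpe, Perm.decomposeFin_symm_apply_succ, swap_self]; rfl
    have hse : Perm.sign e = 1 := by
      have := Perm.mem_alternatingGroup.mp τ.2
      rwa [hpe, Perm.decomposeFin.symm_sign, if_pos rfl, one_mul] at this
    set σ : alternatingGroup (Fin m) := ⟨e, Perm.mem_alternatingGroup.mpr hse⟩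
    have hm0 : (σ : Perm (Fin m)) (Glue.o0 hm) = Glue.o0 hm := Fin.succ_injective _ (by
      rw [← hs]; simpa only [e1] using hτ 1)
    have hm1 : (σ : Perm (Fin m)) (Glue.o1 hm) = Glue.o1 hm := Fin.succ_injective _ (by
      rw [← hs]; simpa only [e2] using hτ 2)
    have h := Subgroup.mem_map_of_mem up (hgen σ hm0 hm1)
    rw [show up σ = τ from Subtype.ext hpe.symm, MonoidHom.map_closure, Set.image_union] at h
    refine Subgroup.closure_mono ?_ h
    rintro x (⟨y, hy, rfl⟩ | ⟨_, ⟨y, hy, rfl⟩, rfl⟩)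
    · exact Or.inl (List.mem_map.2 ⟨y, hy, rfl⟩)
    · exact Or.inr ⟨up y, List.mem_map.2 ⟨y, hy, rfl⟩, by rw [map_mul, map_mul, map_inv, hb]⟩

/-- The gluing relations. -/
def rels (hn : 4 ≤ n) (hn5 : 5 ≤ n) (a b : SU 3 F q) (d : SU 2 F q) (t : SU 3 F q)
    (c5 c6 : alternatingGroup (Fin n)) (αs : List (alternatingGroup (Fin n))) (W6 : List (SU 3 F q)) :
    List (List (SU 4 F q ⊕ alternatingGroup (Fin n)) × List (SU 4 F q ⊕ alternatingGroup (Fin n))) :=
  let cw : alternatingGroup (Fin n) → SU 3 F q → List (SU 4 F q ⊕ alternatingGroup (Fin n)) := fun σ m =>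
    [Sum.inr σ, Sum.inl (tri m), Sum.inr σ⁻¹]
  [([Sum.inl (tri (permSU c3))], [Sum.inr (w0 hn)]),
      ([Sum.inl (permSU (Glue.beta (show 4 ≤ 4 from le_rfl)))], [Sum.inr (Glue.beta hn)]),
      (cw (dlt hn5) a, [Sum.inl (tri (sw12 a))]), (cw (dlt hn5) b, [Sum.inl (tri (sw12 b))]),
      (Sum.inl (tri (io d)) :: cw c5 t, cw c5 t ++ [Sum.inl (tri (io d))])] ++
    αs.map (fun α => ([Sum.inr α, Sum.inl (tri a)], [Sum.inl (tri a), Sum.inr α])) ++
    αs.map (fun α => ([Sum.inr α, Sum.inl (tri b)], [Sum.inl (tri b), Sum.inr α])) ++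
    W6.map (fun m => (Sum.inl (tri t) :: cw c6 m, cw c6 m ++ [Sum.inl (tri t)]))

set_option maxHeartbeats 1000000 in
/-- Any group satisfying the relations carries the data. -/
theorem exists_data2 (hF : Fintype.card F = q ^ 2) (hq : q = 2) (hn : 4 ≤ n) (hn5 : 5 ≤ n) {a b : SU 3 F q}
    (hab : Subgroup.closure ({a, b} : Set (SU 3 F q)) = ⊤) {ω : F} (hω : ω ^ (q + 1) = 1)
    (hωg : ∀ c : F, c ^ (q + 1) = 1 → ∃ i : ℕ, ω ^ i = c) {t : SU 3 F q} (ht : t • (eI 0 : Fin 3 → F) = fun _ => 1)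
    {c5 c6 : alternatingGroup (Fin n)}
    (hc5 : ∀ i, (c5 : Perm (Fin n)) (p3 hn i) = shift 2 (show 2 + 3 ≤ n by omega) i)
    (hc6 : ∀ h : 6 ≤ n, ∀ i, (c6 : Perm (Fin n)) (p3 hn i) = shift 3 (show 3 + 3 ≤ n by omega) i)
    {αs : List (alternatingGroup (Fin n))}
    (hαgen : ∀ τ : alternatingGroup (Fin n), (∀ i, (τ : Perm (Fin n)) (p3 hn i) = p3 hn i) →
      τ ∈ Subgroup.closure ({x | x ∈ αs} ∪ {x | ∃ y ∈ αs, x = dlt hn5 * y * (dlt hn5)⁻¹}))
    {W6 : List (SU 3 F q)} (hW6 : 6 ≤ n → ∀ l < 3, ∀ w hw, w = ω ^ l → tw0 w hw t ∈ W6)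
    {H : Type v} [Group H] (θ : SU 4 F q →* H) (π : alternatingGroup (Fin n) →* H) (φ : H →* SU n F q)
    (hφθ : φ.comp θ = bl n 4 0) (hφπ : φ.comp π = permSU)
    (hr : ∀ p ∈ rels hn hn5 a b (d2 ω hω) t c5 c6 αs W6, ev θ π p.1 = ev θ π p.2) :
    ∃ D : G2 F q hn hn5 H, D.θ = θ ∧ D.π = π ∧ D.φ = φ ∧ D.Good Finset.univ := by
  have hR := hr
  simp only [rels, List.forall_mem_append, List.forall_mem_cons, List.forall_mem_map] at hR
  obtain ⟨⟨⟨⟨h3, hB, hfa, hfb, h5, -⟩, hca⟩, hcb⟩, h6⟩ := hR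
  simp only [List.cons_append, List.nil_append, ev_inl, ev_inr, ev_nil, mul_one, map_inv, ← mul_assoc]
    at h3 hB hfa hfb h5 hca hcb h6
  have hflip : ∀ Y, π (dlt hn5) * θ (tri Y) * (π (dlt hn5))⁻¹ = θ (tri (sw12 Y)) := fun Y => by
    refine DFunLike.congr_fun (MonoidHom.eq_of_eqOn_dense hab (f := (MulAut.conj (π (dlt hn5))).toMonoidHom.comp
      (θ.comp tri)) (g := (θ.comp tri).comp sw12) ?_) Y
    rintro m (rfl | rfl)
    exacts [hfa, hfb]
  let C : Subgroup (alternatingGroup (Fin n)) :=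
    { carrier := {τ | ∀ m, Commute (π τ) (θ (tri m))}
      one_mem' := fun m => by rw [map_one]; exact Commute.one_left _
      mul_mem' := fun hx hy m => by rw [map_mul]; exact (hx m).mul_left (hy m)
      inv_mem' := fun hx m => by rw [map_inv]; exact (hx m).inv_left }
  have hαC : ∀ α ∈ αs, α ∈ C := fun α hα m => by
    refine mul_inv_eq_iff_eq_mul.mp (DFunLike.congr_fun (MonoidHom.eq_of_eqOn_dense hab
      (f := (MulAut.conj (π α)).toMonoidHom.comp (θ.comp tri)) (g := θ.comp tri) ?_) m)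
    rintro m' (rfl | rfl)
    exacts [mul_inv_eq_iff_eq_mul.mpr (hca α hα), mul_inv_eq_iff_eq_mul.mpr (hcb α hα)]
  have hsw : ∀ Y : SU 3 F q, sw12 (sw12 Y) = Y := fun Y => by
    rw [← MonoidHom.comp_apply, emap_comp, show (pe (swap (1 : Fin 3) 2)).trans (pe (swap 1 2)) =
      Function.Embedding.refl _ from Function.Embedding.ext fun i => swap_apply_self _ _ i, emap_refl]
  let D : G2 F q hn hn5 H :=
    { θ := θ
      π := π
      φ := φ
      φθ := hφθ
      φπ := hφπ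
      compat3 := h3
      compatB := hB
      flip := hflip
      cent := fun τ hτ => by
        refine (Subgroup.closure_le C).mpr ?_ (hαgen τ hτ)
        rintro y (hy | ⟨y, hy, rfl⟩)
        · exact hαC y hy
        · intro m
          rw [show θ (tri m) = π (dlt hn5) * θ (tri (sw12 m)) * (π (dlt hn5))⁻¹ by rw [hflip, hsw],
            map_mul, map_mul, map_inv]
          exact (Commute.conj_iff _).mpr (hαC y hy (sw12 m)) }
  refine ⟨D, rfl, rfl, rfl, D.good_all hF hq (ω := ω) (hω := hω) (t := t) ?_ _ (by simp; omega)⟩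
  refine ⟨fun c hc => hωg c (cube_eq_one hF hq hc), ht, ⟨c5, hc5, ?_⟩, fun h => ⟨c6, hc6 h, fun w hw' => ?_⟩⟩
  · show θ _ * (π c5 * θ (tri t) * (π c5)⁻¹) = (π c5 * θ (tri t) * (π c5)⁻¹) * θ _
    simpa only [← mul_assoc] using h5
  · obtain ⟨i, rfl⟩ := hωg w hw'
    have e : ω ^ i = ω ^ (i % 3) := by
      have h3' : ω ^ 3 = 1 := by have := hω; rwa [hq] at this
      conv_lhs => rw [← Nat.mod_add_div i 3, pow_add, pow_mul, h3', one_pow, mul_one]
    have hmem := hW6 h (i % 3) (Nat.mod_lt _ (by norm_num)) (ω ^ i) hw' e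
    show θ _ * (π c6 * θ (tri _) * (π c6)⁻¹) = (π c6 * θ (tri _) * (π c6)⁻¹) * θ _
    simpa only [← mul_assoc] using h6 _ hmem

/-- The whole group is the group on all points. -/
theorem HS_univ (hF : Fintype.card F = q ^ 2) {hn : 4 ≤ n} {hn5 : 5 ≤ n} {H : Type v} [Group H]
    (D : G2 F q hn hn5 H) : D.θ.range ⊔ D.π.range ≤ D.HS (Finset.univ : Finset (Fin n)) := by
  refine sup_le ((D.θ_range_le hF).trans (D.HS_mono (Finset.subset_univ _))) ?_
  rintro _ ⟨τ, rfl⟩
  exact D.π_mem (by simp; omega) ⟨Perm.mem_alternatingGroup.mp τ.2, fun x hx => absurd (Finset.mem_univ x) hx⟩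

set_option maxHeartbeats 1000000 in
/-- Dimension at least five over the field with four elements. -/
theorem su_six_two (hF : Fintype.card F = q ^ 2) (hq : q = 2) (hn5 : 5 ≤ n) :
    ∃ g : Fin 6 → Cfsg.SU n F q, PresOn g (if n = 5 then 35 else 39) := by
  classical
  have hn : 4 ≤ n := by omega
  obtain ⟨gS, hS⟩ := Herm.su_four_two hF hq
  obtain ⟨gA, hA⟩ := alt_two (n := n) hn5
  obtain ⟨a, b, hab⟩ := SUOdd.two_gen_three_up (n := 3) hF le_rfl
  obtain ⟨ω, hω, -, -, hωg⟩ := SUStep.exists_norm_gen (F := F) (q := q) hF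
  obtain ⟨t, ht⟩ := exists_tt hF hq
  obtain ⟨αs, hα1, hαfix, hαgen⟩ := alphas3 hn5
  obtain ⟨c5, hc5⟩ := exists_even (k := 3) (by omega) (p3 hn) (shift 2 (show 2 + 3 ≤ n by omega))
  obtain ⟨c6, hc6⟩ : ∃ c6 : alternatingGroup (Fin n), ∀ h : 6 ≤ n, ∀ i,
      (c6 : Perm (Fin n)) (p3 hn i) = shift 3 (show 3 + 3 ≤ n by omega) i := by
    by_cases h : 6 ≤ n
    · obtain ⟨c, hc⟩ := exists_even (k := 3) (by omega) (p3 hn) (shift 3 (show 3 + 3 ≤ n by omega))
      exact ⟨c, fun _ => hc⟩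
    · exact ⟨1, fun h' => absurd h' h⟩
  have hw : ∀ i : ℕ, (ω ^ i) ^ (q + 1) = 1 := fun i => by rw [← pow_mul, mul_comm, pow_mul, hω, one_pow]
  let W6 : List (SU 3 F q) := if 6 ≤ n then List.ofFn (fun i : Fin 3 => tw0 (ω ^ (i : ℕ)) (hw i) t) else []
  set Rs := rels hn hn5 a b (d2 ω hω) t c5 c6 αs W6 with hRs
  have hlen : Rs.length ≤ (if n = 5 then 7 else 10) := by
    simp only [hRs, rels, W6, List.length_append, List.length_map, List.length_cons, List.length_nil]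
    split_ifs <;> simp <;> omega
  -- the model satisfies the relations
  have htri : ∀ m, (bl n 4 0 (tri m) : SU n F q) = emap (p3 hn) m := fun m => by
    rw [tri, bl_comp_apply (m := 0) (by omega) (by norm_num) rfl, bl_eq (show 0 + 3 ≤ n by omega)]
  have hconj : ∀ (σ : alternatingGroup (Fin n)) (g : Fin 3 ↪ Fin n), (∀ i, (σ : Perm (Fin n)) (p3 hn i) = g i) →
      ∀ m, permSU σ * bl n 4 0 (tri m) * (permSU σ)⁻¹ = (emap g m : SU n F q) := fun σ g h m => by
    rw [htri]; exact permSU_conj σ h m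
  have hmodel : ∀ p ∈ Rs, ev (bl n 4 0 : SU 4 F q →* SU n F q) permSU p.1 =
      ev (bl n 4 0 : SU 4 F q →* SU n F q) permSU p.2 := by
    intro p hp
    simp only [hRs, rels, List.mem_append, List.mem_cons, List.not_mem_nil, or_false, List.mem_map] at hp
    rcases hp with (((rfl | rfl | rfl | rfl | rfl) | ⟨α, hα, rfl⟩) | ⟨α, hα, rfl⟩) | ⟨m, hm, rfl⟩
    · simp only [ev_inl, ev_inr, ev_nil, mul_one]
      rw [htri, ← bl_eq]
      exact model_compat hn
    · simp only [ev_inl, ev_inr, ev_nil, mul_one]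
      rw [bl_eq (show 0 + 4 ≤ n by omega)]
      refine emap_permSU _ (fun i => ?_) fun j hj => ?_
      · show swap (Glue.o0 hn) (Glue.o1 hn) (swap (Glue.o2 hn) (Glue.o3 hn) (p4 hn i)) =
          p4 hn (swap (Glue.o0 (show 4 ≤ 4 from le_rfl)) (Glue.o1 le_rfl) (swap (Glue.o2 le_rfl) (Glue.o3 le_rfl) i))
        fin_cases i <;> simp [Equiv.swap_apply_def, Fin.ext_iff, shift_val]
      · have h' : ∀ i : Fin 4, (⟨i, by omega⟩ : Fin n) ≠ j := fun i e => hj i (by
          rw [← e]; exact Fin.ext (by simp [shift_val]))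
        show swap (Glue.o0 hn) (Glue.o1 hn) (swap (Glue.o2 hn) (Glue.o3 hn) j) = j
        have g0 : j ≠ Glue.o0 hn := (h' 0).symm
        have g1 : j ≠ Glue.o1 hn := (h' 1).symm
        have g2 : j ≠ Glue.o2 hn := (h' 2).symm
        have g3 : j ≠ Glue.o3 hn := (h' 3).symm
        rw [swap_apply_of_ne_of_ne (a := Glue.o2 hn) g2 g3, swap_apply_of_ne_of_ne g0 g1]
    all_goals simp only [List.cons_append, List.nil_append, ev_inl, ev_inr, ev_nil, mul_one, map_inv, ← mul_assoc]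
    iterate 2
      rw [hconj (dlt hn5) ((pe (swap (1 : Fin 3) 2)).trans (p3 hn)) (fun i => by
        obtain ⟨d0, d1, d2'⟩ := G2.dlt_apply (hn := hn) (hn5 := hn5)
        fin_cases i
        exacts [d0, d1, d2']), htri, sw12, ← MonoidHom.comp_apply (emap (p3 hn)), emap_comp]
    · have h := hconj c5 (shift 2 (show 2 + 3 ≤ n by omega)) hc5 t
      rw [mul_assoc (bl n 4 0 (tri (io (d2 ω hω)))), mul_assoc (bl n 4 0 (tri (io (d2 ω hω)))), h, htri, ← bl_eq,
        ← bl_eq, io, bl_comp_apply (m := 0) (by omega) (by norm_num) rfl]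
      exact (bl_commute le_rfl (by omega) _ _).eq
    iterate 2
      have h := hconj α (p3 hn) (hαfix α hα)
      rw [← mul_inv_eq_iff_eq_mul, h, htri]
    · have h6 : 6 ≤ n := by
        by_contra h6
        simp [W6, h6] at hm
      have h := hconj c6 (shift 3 (show 3 + 3 ≤ n by omega)) (hc6 h6) m
      rw [mul_assoc (bl n 4 0 (tri t)), mul_assoc (bl n 4 0 (tri t)), h, htri, ← bl_eq, ← bl_eq]
      exact (bl_commute le_rfl (by omega) _ _).eq
  have hW : 6 ≤ n → ∀ l < 3, ∀ w hw, w = ω ^ l → tw0 w hw t ∈ W6 := fun h l hl w hw' e => by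
    subst e; simp only [W6, if_pos h, List.mem_ofFn]; exact ⟨⟨l, hl⟩, rfl⟩
  refine ⟨_, (presOn_two_factor hS hA (bl n 4 0) permSU Rs hmodel ?_ ?_).mono (by split_ifs at hlen ⊢ <;> omega)⟩
  · obtain ⟨D, e1, e2, e3, hG⟩ := exists_data2 hF hq hn hn5 hab hω hωg ht hc5 hc6 hαgen hW (bl n 4 0) permSU
      (MonoidHom.id _) (MonoidHom.id_comp _) (MonoidHom.id_comp _) hmodel
    rw [eq_top_iff]
    intro g _
    obtain ⟨x, hx, e⟩ := hG.2 g (fun j hj => absurd (Finset.mem_univ j) hj)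
    have : D.HS Finset.univ ≤ (bl n 4 0 : SU 4 F q →* SU n F q).range ⊔ (permSU : _ →* SU n F q).range := by
      refine D.HS_le fun σ _ Y => ?_
      rw [G2.ψ_apply, e1, e2]
      exact mul_mem (mul_mem (Subgroup.mem_sup_right ⟨_, rfl⟩) (Subgroup.mem_sup_left ⟨_, rfl⟩))
        (inv_mem (Subgroup.mem_sup_right ⟨_, rfl⟩))
    rw [e3, MonoidHom.id_apply] at e
    exact e ▸ this hx
  · intro H _ θ π φ hH hφθ hφπ hr x hx
    obtain ⟨D, e1, e2, e3, hG⟩ := exists_data2 hF hq hn hn5 hab hω hωg ht hc5 hc6 hαgen hW θ π φ hφθ hφπ hr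
    have hxm : x ∈ D.HS Finset.univ := HS_univ hF D (by rw [e1, e2, hH]; trivial)
    exact hG.1 x hxm (by rw [e3]; exact hx)

end Cfsg.Agent.KSG55.U6
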