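import Cfsg.Agent.KSG55.U6.Small

/-! Six generators for `q ≥ 3`. -/

set_option autoImplicit false
set_option linter.style.haveILetI false

namespace Cfsg.Agent.KSG55.U6

open Cfsg.Agent.KSG55.Pres Cfsg.Agent.KSG55.Lin

variable {F : Type*} [Field F] [Fintype F] {q : ℕ}

/-- `SU₃` on four generators. -/
theorem su3_four (hF : Fintype.card F = q ^ 2) (hq : q ≠ 2) : ∃ g : Fin 4 → Cfsg.SU 3 F q, PresOn g 21 := by
  obtain ⟨ρ, hρ⟩ := IsCyclic.exists_generator (α := Fˣ)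
  obtain ⟨x, hx⟩ : ∃ x : F, x ^ q ≠ x := by
    by_contra h
    push Not at h
    have h1 : Nat.card F ≤ q := by
      rw [← Unitary.card_fixed hF]
      exact Nat.card_le_card_of_injective (fun x => (⟨x, h x⟩ : {x : F // x ^ q = x}))
        fun a b e => congrArg Subtype.val e
    rw [Nat.card_eq_fintype_card, hF] at h1
    have := Unitary.two_le_q hF
    have : 2 * q ≤ q ^ 2 := by rw [sq]; exact Nat.mul_le_mul_right q this
    omega
  have hδ : x - x ^ q ≠ 0 := sub_ne_zero.mpr (Ne.symm hx)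
  have hδt : (x - x ^ q) ^ q = -(x - x ^ q) := by
    rw [Unitary.sub_pow_q hF, Unitary.pow_q_pow_q hF]; ring
  obtain ⟨b, hb⟩ := Unitary.exists_trace_eq hF (t := (-1 : F)) (by rw [Unitary.neg_pow_q hF, one_pow])
  have h₁ : Cfsg.Agent.LinearGroup.SUThree.Cond q (1 : F) b := by
    unfold Cfsg.Agent.LinearGroup.SUThree.Cond; rw [hb, one_pow]; ring
  obtain ⟨e⟩ := SU3.exists_equiv hF
  have hρ' : ∀ y : Fˣ, y ∈ Submonoid.powers ρ := fun y => mem_powers_iff_mem_zpowers.mpr (hρ y)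
  have h5 := SU3.presOn_five (hF := hF) (hδ := hδ) (hδt := hδt) (h₁ := h₁) hρ' hq
  have h3 := SU3.presOn_three (hF := hF) (hδ := hδ) (hδt := hδt) (h₁ := h₁) hρ' hq
  obtain ⟨L, -, -, htop, -⟩ := h3.exists_hom
  set G5 := SU3.gens5 hF hδ hδt ρ h₁ with hG5
  have h := h5.change ![G5 4, G5 3, G5 2, G5 0] (by
    rw [eq_top_iff, ← htop]
    refine Subgroup.closure_mono ?_
    rintro _ ⟨i, rfl⟩
    fin_cases i
    · exact ⟨0, rfl⟩
    · exact ⟨1, rfl⟩
    · exact ⟨2, rfl⟩)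
    ![some 4, some 3, some 2, some 0] (fun j i hj => by fin_cases j <;> simp at hj <;> subst hj <;> rfl)
    (fun j j' i hj hj' => by fin_cases j <;> fin_cases j' <;> simp at hj hj' ⊢ <;> subst hj <;> simp at hj')
  refine ⟨_, (h.mono (le_of_eq ?_)).map e⟩
  rw [Finset.filter_eq_empty_iff.mpr fun j _ => by fin_cases j <;> simp]
  rfl

/-- Dimension at least five, `q ≥ 3`. -/
theorem su_six_odd (hF : Fintype.card F = q ^ 2) (hq : 3 ≤ q) {n : ℕ} (hn : 5 ≤ n) :
    ∃ g : Fin 6 → Cfsg.SU n F q, PresOn g (if n = 5 then 35 else 39) := by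
  obtain ⟨gS, hS⟩ := su3_four hF (by omega)
  obtain ⟨gA, hA⟩ := alt_two (n := n) hn
  by_cases h4 : 4 ≤ q
  · obtain ⟨g, hg⟩ := presOn_glue3 hF hq hn hS hA [] (fun p hp => by simp at hp) (fun _ _ _ _ => Or.inl h4)
    exact ⟨g, hg.mono (by simp; split_ifs <;> omega)⟩
  · obtain ⟨g, hg⟩ := presOn_glue_small hF (by omega) hn hS hA
    exact ⟨g, hg.mono (by split_ifs <;> omega)⟩

end Cfsg.Agent.KSG55.U6
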