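import Cfsg.Agent.KSG55.Phan.Embed
import Cfsg.Agent.KSG55.SLn.Cases
import Cfsg.Agent.KSG55.Pres.Pair

/-! Permutation matrices in the unitary groups, even permutations with given values. -/

set_option autoImplicit false
set_option linter.unusedSectionVars false

namespace Cfsg.Agent.KSG55.U6

open Equiv Matrix Cfsg.Agent.Unitary Cfsg.Agent.KSG55.Pres Cfsg.Agent.KSG55.Phan

variable {F : Type*} [Field F] [Fintype F] {n q : ℕ}

/-- An even permutation matrix in the special unitary group. -/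
def permSU : alternatingGroup (Fin n) →* SU n F q :=
  MonoidHom.mk' (fun σ => ⟨SLn.permM σ, fun u v => by
    have e : ∀ (w : Fin n → F) i,
        (((SLn.permM σ : Matrix.SpecialLinearGroup (Fin n) F) : Matrix (Fin n) (Fin n) F) *ᵥ w) i =
          w ((σ : Perm (Fin n)).symm i) := fun w i => by
      simp only [Matrix.mulVec, dotProduct, SLn.permM_apply]
      rw [Finset.sum_eq_single ((σ : Perm (Fin n)).symm i) (fun j _ hj => ?_) (by simp)]
      · simp
      · rw [if_neg fun h => hj (by rw [← h, Equiv.symm_apply_apply]), zero_mul]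
    show herm q (((SLn.permM σ : Matrix.SpecialLinearGroup (Fin n) F) : Matrix (Fin n) (Fin n) F) *ᵥ u)
      (((SLn.permM σ : Matrix.SpecialLinearGroup (Fin n) F) : Matrix (Fin n) (Fin n) F) *ᵥ v) = herm q u v
    simp only [herm, hermForm, e]
    exact Equiv.sum_comp (σ : Perm (Fin n)).symm fun j => u j * v j ^ q⟩)
    fun σ τ => Subtype.ext (map_mul SLn.permM σ τ)

theorem permSU_smul (σ : alternatingGroup (Fin n)) (v : Fin n → F) (i : Fin n) :
    ((permSU σ : SU n F q) • v) i = v ((σ : Perm (Fin n)).symm i) := by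
  show (((SLn.permM σ : Matrix.SpecialLinearGroup (Fin n) F) : Matrix (Fin n) (Fin n) F) *ᵥ v) i = _
  simp only [Matrix.mulVec, dotProduct, SLn.permM_apply]
  rw [Finset.sum_eq_single ((σ : Perm (Fin n)).symm i) (fun j _ hj => ?_) (by simp)]
  · simp
  · rw [if_neg fun h => hj (by rw [← h, Equiv.symm_apply_apply]), zero_mul]

theorem permSU_smul_eI (σ : alternatingGroup (Fin n)) (i : Fin n) :
    (permSU σ : SU n F q) • (eI i : Fin n → F) = eI ((σ : Perm (Fin n)) i) := funext fun j => by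
  rw [permSU_smul]
  simp [eI, Pi.single_apply, Equiv.symm_apply_eq]

/-- Conjugating an embedded group by a permutation. -/
theorem permSU_conj {a : ℕ} (σ : alternatingGroup (Fin n)) {f g : Fin a ↪ Fin n}
    (h : ∀ i, (σ : Perm (Fin n)) (f i) = g i) (A : SU a F q) :
    permSU σ * emap f A * (permSU σ)⁻¹ = (emap g A : SU n F q) := by
  rw [mul_inv_eq_iff_eq_mul]
  refine eq_of_smul_eq_SU fun v => ext_parts g (fun i => ?_) fun j hj => ?_
  · rw [mul_smul, mul_smul, permSU_smul, ← h, Equiv.symm_apply_apply, emap_apply, h, emap_apply]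
    rw [show ((permSU σ : SU n F q) • v) ∘ g = v ∘ f from funext fun l => by
      simp [Function.comp_apply, permSU_smul, ← h]]
  · rw [mul_smul, mul_smul, permSU_smul, emap_off g A _ hj, permSU_smul,
      emap_off f A _ fun i e => hj i (by rw [← h, e, Equiv.apply_symm_apply])]

/-- A permutation of the coordinates as an embedding. -/
abbrev pe {a : ℕ} (p : Perm (Fin a)) : Fin a ↪ Fin a := p.toEmbedding

/-- The cycle of three letters. -/
def c3 : alternatingGroup (Fin 3) :=
  ⟨finRotate 3, Equiv.Perm.mem_alternatingGroup.mpr (by decide)⟩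

theorem c3_apply (i : Fin 3) : (c3 : Perm (Fin 3)) i = i + 1 := by
  show finRotate 3 i = i + 1
  exact finRotate_succ_apply i

/-- An even permutation with given values on a proper part with two spare points. -/
theorem exists_even {k : ℕ} (hk : k + 2 ≤ n) (f g : Fin k ↪ Fin n) :
    ∃ σ : alternatingGroup (Fin n), ∀ i, (σ : Perm (Fin n)) (f i) = g i := by
  obtain ⟨σ, hσ⟩ := SLn.exists_perm f g f.injective g.injective
  rcases Int.units_eq_one_or (Perm.sign σ) with hs | hs
  · exact ⟨⟨σ, Perm.mem_alternatingGroup.mpr hs⟩, hσ⟩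
  · obtain ⟨a, b, hab, ha, hb⟩ : ∃ a b : Fin n, a ≠ b ∧ (∀ i, f i ≠ a) ∧ ∀ i, f i ≠ b := by
      have hc : 1 < ((Finset.univ.map f)ᶜ).card := by
        rw [Finset.card_compl, Finset.card_map, Finset.card_univ, Fintype.card_fin, Fintype.card_fin]; omega
      obtain ⟨a, ha, b, hb, hab⟩ := Finset.one_lt_card.mp hc
      simp only [Finset.mem_compl, Finset.mem_map, Finset.mem_univ, true_and, not_exists] at ha hb
      exact ⟨a, b, hab, ha, hb⟩
    refine ⟨⟨σ * swap a b, Perm.mem_alternatingGroup.mpr (by rw [map_mul, hs, Perm.sign_swap hab]; rfl)⟩, fun i => ?_⟩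
    show σ (swap a b (f i)) = g i
    rw [swap_apply_of_ne_of_ne (ha i) (hb i), hσ]

/-- Exactly one spare pair is exchanged. -/
theorem exists_even_four (f g : Fin 4 ↪ Fin n) :
    ∃ σ : alternatingGroup (Fin n), (σ : Perm (Fin n)) (f 0) = g 0 ∧ (σ : Perm (Fin n)) (f 1) = g 1 ∧
      (((σ : Perm (Fin n)) (f 2) = g 2 ∧ (σ : Perm (Fin n)) (f 3) = g 3) ∨
        ((σ : Perm (Fin n)) (f 2) = g 3 ∧ (σ : Perm (Fin n)) (f 3) = g 2)) := by
  obtain ⟨σ, hσ⟩ := SLn.exists_perm f g f.injective g.injective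
  rcases Int.units_eq_one_or (Perm.sign σ) with hs | hs
  · exact ⟨⟨σ, Perm.mem_alternatingGroup.mpr hs⟩, hσ 0, hσ 1, Or.inl ⟨hσ 2, hσ 3⟩⟩
  · have hne : g 2 ≠ g 3 := fun e => absurd (g.injective e) (by decide)
    refine ⟨⟨swap (g 2) (g 3) * σ, Perm.mem_alternatingGroup.mpr (by rw [map_mul, hs, Perm.sign_swap hne]; rfl)⟩,
      ?_, ?_, Or.inr ⟨?_, ?_⟩⟩
    · show swap (g 2) (g 3) (σ (f 0)) = g 0
      rw [hσ, swap_apply_of_ne_of_ne (fun e => absurd (g.injective e) (by decide))
        (fun e => absurd (g.injective e) (by decide))]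
    · show swap (g 2) (g 3) (σ (f 1)) = g 1
      rw [hσ, swap_apply_of_ne_of_ne (fun e => absurd (g.injective e) (by decide))
        (fun e => absurd (g.injective e) (by decide))]
    · show swap (g 2) (g 3) (σ (f 2)) = g 3
      rw [hσ, swap_apply_left]
    · show swap (g 2) (g 3) (σ (f 3)) = g 2
      rw [hσ, swap_apply_right]

/-- Presentations of the alternating groups on two generators. -/
theorem alt_two (hn : 5 ≤ n) : ∃ g : Fin 2 → alternatingGroup (Fin n),
    PresOn g (if n = 5 then 4 else 8) := by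
  by_cases h : 10 ≤ n
  · obtain ⟨-, g, hg, h3⟩ := large_cases n h
    obtain ⟨w, hw⟩ := alt_partner hn h3
    exact ⟨_, (hg.pair_keep 1 w hw).mono (by rw [if_neg (by omega)])⟩
  · obtain ⟨-, g, hg⟩ := small_cases n (by omega) (by omega)
    refine ⟨g, hg.mono ?_⟩
    split_ifs <;> omega

/-- A group of even permutations containing the consecutive three cycles is everything. -/
theorem eq_top_of_consecutive (hn : 5 ≤ n) (K : Subgroup (alternatingGroup (Fin n)))
    (h : ∀ k (hk : k + 3 ≤ n), ∃ τ ∈ K, (τ : Perm (Fin n)) =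
      cyc3 (⟨k, by omega⟩ : Fin n) ⟨k + 1, by omega⟩ ⟨k + 2, by omega⟩) : K = ⊤ := by
  set P := K.map (alternatingGroup (Fin n)).subtype with hP
  have hc : ∀ k (hk : k + 3 ≤ n), cyc3 (⟨k, by omega⟩ : Fin n) ⟨k + 1, by omega⟩ ⟨k + 2, by omega⟩ ∈ P := fun k hk => by
    obtain ⟨τ, hτ, e⟩ := h k hk; exact ⟨τ, hτ, e⟩
  have hab : (⟨0, by omega⟩ : Fin n) ≠ ⟨1, by omega⟩ := by simp [Fin.ext_iff]
  have step : ∀ j, ∀ hj : j < n, 2 ≤ j → cyc3 (⟨0, by omega⟩ : Fin n) ⟨1, by omega⟩ ⟨j, hj⟩ ∈ P := by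
    intro j
    induction j with
    | zero => intro _ h; omega
    | succ j ih =>
      intro hj h2
      rcases Nat.lt_or_ge j 2 with hj2 | hj2
      · obtain rfl : j = 1 := by omega
        exact hc 0 (by omega)
      · obtain ⟨c, hc', c0, c1, cj⟩ : ∃ c ∈ P, c (⟨0, by omega⟩ : Fin n) = ⟨0, by omega⟩ ∧
            c ⟨1, by omega⟩ = ⟨1, by omega⟩ ∧ c ⟨j, by omega⟩ = ⟨j + 1, hj⟩ := by
          rcases Nat.eq_or_lt_of_le hj2 with rfl | hj3
          · refine ⟨_, hc 2 (by omega), ?_, ?_, cyc3_left (by simp [Fin.ext_iff]) (by simp [Fin.ext_iff])⟩ <;>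
              exact cyc3_of_ne (by simp [Fin.ext_iff]) (by simp [Fin.ext_iff]) (by simp [Fin.ext_iff])
          · obtain ⟨i, rfl⟩ : ∃ i, j = i + 1 := ⟨j - 1, by omega⟩
            refine ⟨_, hc i (by omega), ?_, ?_, cyc3_mid (by simp [Fin.ext_iff]) (by simp [Fin.ext_iff])⟩ <;>
              exact cyc3_of_ne (by rw [Ne, Fin.ext_iff]; simp only; omega) (by rw [Ne, Fin.ext_iff]; simp only; omega) (by rw [Ne, Fin.ext_iff]; simp only; omega)
        have := mul_mem (mul_mem hc' (ih (by omega) hj2)) (inv_mem hc')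
        rwa [cyc3_conj, c0, c1, cj] at this
  rw [eq_top_iff]
  intro τ _
  have hle : altOn (Finset.univ : Finset (Fin n)) ≤ P := altOn_le hab fun j _ h0 h1 => by
    have := j.isLt
    simp [Fin.ext_iff] at h0 h1
    exact step j j.isLt (by omega)
  obtain ⟨τ', h', e'⟩ := hle (show (τ : Perm (Fin n)) ∈ altOn (Finset.univ : Finset (Fin n)) from
    ⟨Perm.mem_alternatingGroup.mp τ.2, fun x hx => absurd (Finset.mem_univ x) hx⟩)
  rwa [show τ' = τ from Subtype.ext e'] at h'

end Cfsg.Agent.KSG55.U6
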