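import Cfsg.Agent.KSG55.U6.Three

/-! The two further relations for the field with nine elements. -/

set_option autoImplicit false
set_option linter.unusedSectionVars false

namespace Cfsg.Agent.KSG55.U6

open Equiv Cfsg.Agent.Unitary Cfsg.Agent.KSG55.Pres Cfsg.Agent.KSG55.Phan Cfsg.Agent.KSG55.SLn
open Cfsg.Agent.KSG55.SUStep (exists_fixS_one)

universe u

variable {F : Type u} [Field F] [Fintype F] {n q : ℕ}

theorem exists_span (hF : Fintype.card F = q ^ 2) (hq : q = 3) :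
    ∃ t1 t2 : F, ∀ P : F → Prop, P 0 → (∀ a b, P a → P b → P (a + b)) → P t1 → P t2 → ∀ x, P x := by
  classical
  subst hq
  have h9 : ((9 : ℕ) : F) = 0 := by
    have := FiniteField.cast_card_eq_zero F
    rwa [hF] at this
  have h11 : (1 : F) ≠ -1 := fun e => one_ne_zero (show (1 : F) = 0 by
    push_cast at h9
    linear_combination h9 - 4 * e)
  obtain ⟨x, -, hx⟩ := Finset.exists_mem_notMem_of_card_lt_card (s := ({0, 1, -1} : Finset F)) (t := Finset.univ)
    (lt_of_le_of_lt Finset.card_le_three (by rw [Finset.card_univ, hF]; norm_num))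
  simp only [Finset.mem_insert, Finset.mem_singleton, not_or] at hx
  refine ⟨1, x, fun P h0 hadd h1 h2 y => ?_⟩
  let M : AddSubmonoid F := { carrier := {z | P z}, zero_mem' := h0, add_mem' := fun ha hb => hadd _ _ ha hb }
  let A : AddSubgroup F :=
    { M with
      neg_mem' := fun {z} hz => by
        have e : -z = ((8 : ℕ) : F) * z := by
          push_cast at h9 ⊢; linear_combination -z * h9
        rw [e, ← nsmul_eq_mul]
        exact M.nsmul_mem hz 8 }
  have hsub : ({0, 1, -1, x} : Finset F) ⊆ Finset.univ.filter fun z => z ∈ A := by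
    intro z hz
    simp only [Finset.mem_insert, Finset.mem_singleton] at hz
    rw [Finset.mem_filter]
    refine ⟨Finset.mem_univ _, ?_⟩
    rcases hz with rfl | rfl | rfl | rfl
    exacts [A.zero_mem, h1, A.neg_mem h1, h2]
  have h4 : 4 ≤ Nat.card A := by
    rw [Nat.card_eq_fintype_card, Fintype.card_subtype]
    refine le_trans (le_of_eq ?_) (Finset.card_le_card hsub)
    rw [Finset.card_insert_of_notMem (by simp [one_ne_zero.symm, Ne.symm hx.1]),
      Finset.card_insert_of_notMem (by simp [h11, Ne.symm hx.2.1]),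
      Finset.card_insert_of_notMem (by simp [Ne.symm hx.2.2]), Finset.card_singleton]
  have hd : Nat.card A ∣ 3 ^ 2 := by
    have := AddSubgroup.card_addSubgroup_dvd_card A
    rwa [Nat.card_eq_fintype_card (α := F), hF] at this
  obtain ⟨i, hi, e⟩ := (Nat.dvd_prime_pow Nat.prime_three).mp hd
  have htop : A = ⊤ := by
    refine AddSubgroup.eq_top_of_card_eq A ?_
    rw [Nat.card_eq_fintype_card (α := F), hF]
    interval_cases i <;> omega
  have : y ∈ A := htop ▸ AddSubgroup.mem_top y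
  exact this

theorem exists_shift4 (hn5 : 5 ≤ n) (k : ℕ) (hk : k + 4 ≤ n) : ∃ σ : alternatingGroup (Fin n),
    ∀ i, (σ : Perm (Fin n)) (shift 0 (show 0 + 4 ≤ n by omega) i) = shift k hk i := by
  by_cases h6 : 6 ≤ n
  · exact exists_even (k := 4) (by omega) _ _
  obtain rfl : n = 5 := by omega
  obtain rfl | rfl : k = 0 ∨ k = 1 := by omega
  · exact ⟨1, fun i => rfl⟩
  · refine ⟨⟨finRotate 5, Perm.mem_alternatingGroup.mpr (by decide)⟩, fun i => ?_⟩
    show finRotate 5 _ = _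
    rw [finRotate_succ_apply]
    refine Fin.ext ?_
    fin_cases i <;> rfl

namespace G3

variable {hn : 4 ≤ n} {H : Type*} [Group H] (D : G3 F q hn H) (hF : Fintype.card F = q ^ 2) (hq : 3 ≤ q)

include hF hq

theorem conj_eq_three {σ τ : alternatingGroup (Fin n)}
    (h : ∀ i, (σ : Perm (Fin n)) (shift 0 (show 0 + 3 ≤ n by omega) i) = (τ : Perm (Fin n)) (shift 0 (show 0 + 3 ≤ n by omega) i))
    (Y : SU 3 F q) : D.π σ * D.θ Y * (D.π σ)⁻¹ = D.π τ * D.θ Y * (D.π τ)⁻¹ := by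
  have := gen_top hF hq (show 2 ≤ 3 by norm_num)
    (((MulAut.conj (D.π σ)).toMonoidHom.comp D.θ).eqLocus ((MulAut.conj (D.π τ)).toMonoidHom.comp D.θ)) fun j hj X => by
    show D.π σ * D.θ _ * (D.π σ)⁻¹ = D.π τ * D.θ _ * (D.π τ)⁻¹
    obtain rfl | rfl : j = 0 ∨ j = 1 := by omega
    · exact D.conj_eq (h 0) (h 1) X
    · rw [io_rot, map_mul, map_mul, map_inv, D.compat]
      have e : ∀ ρ : alternatingGroup (Fin n), D.π ρ * (D.π (w0 hn) * D.θ (io X) * (D.π (w0 hn))⁻¹) * (D.π ρ)⁻¹ =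
          D.π (ρ * w0 hn) * D.θ (io X) * (D.π (ρ * w0 hn))⁻¹ := fun ρ => by rw [map_mul]; group
      rw [e, e]
      refine D.conj_eq ?_ ?_ X
      · rw [Subgroup.coe_mul, Subgroup.coe_mul, Perm.mul_apply, Perm.mul_apply, w0_o0]; exact h 1
      · rw [Subgroup.coe_mul, Subgroup.coe_mul, Perm.mul_apply, Perm.mul_apply, w0_o1]; exact h 2
  exact (Subgroup.eq_top_iff' _).mp this Y

end G3

variable (hF : Fintype.card F = q ^ 2)

include hF

theorem mv_facts {γ : F} (hγ : γ ^ (q + 1) = -1) (t : F) :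
    herm q (Four.mv γ t) (Four.mv γ t) = 1 ∧ herm q (Four.mv γ t) (eI 0) = 0 ∧
      herm q (Four.mv γ t) (Four.vv γ) = 0 ∧ herm q (Four.vv γ) (Four.vv γ) = 1 := by
  have hγ' : γ * γ ^ q = -1 := by rw [← pow_succ', hγ]
  refine ⟨?_, ?_, ?_, ?_⟩
  · rw [herm, hermForm, Fin.sum_univ_four]
    simp [Four.mv, zero_pow_q hF, mul_pow]
    linear_combination t * t ^ q * hγ'
  · rw [herm_eI_right hF]; rfl
  · rw [herm, hermForm, Fin.sum_univ_four]
    simp [Four.mv, Four.vv, zero_pow_q hF]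
    linear_combination t * hγ'
  · rw [herm, hermForm, Fin.sum_univ_four]
    simp [Four.vv, zero_pow_q hF]
    linear_combination hγ'

/-- The base data in dimension four. -/
theorem exists_data {γ : F} (hγ : γ ^ (q + 1) = -1) (t : F) : ∃ a a' b b' c : SU 3 F q,
    (bl 4 3 1 a : SU 4 F q) • (eI 1 : Fin 4 → F) = eI 3 ∧
    (bl 4 3 1 a' : SU 4 F q) • (eI 1 : Fin 4 → F) = Four.mv γ t ∧
    (bl 4 3 1 a * bl 4 3 0 (bl 3 2 0 (W hF)) : SU 4 F q) • ((bl 4 3 1 b : SU 4 F q) • (eI 1 : Fin 4 → F)) = Four.vv γ ∧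
    (bl 4 3 1 a * bl 4 3 0 (bl 3 2 0 (W hF)) * bl 4 3 1 b * bl 4 3 0 (bl 3 2 0 (W hF)) : SU 4 F q) =
      bl 4 3 1 a' * bl 4 3 0 (bl 3 2 0 (W hF)) * bl 4 3 1 b' * bl 4 3 0 (bl 3 2 0 (W hF)) * bl 4 3 1 c := by
  set w : SU 4 F q := bl 4 3 0 (bl 3 2 0 (W hF)) with hw
  have hwe : w • (eI 0 : Fin 4 → F) = eI 1 := by
    have h := bl_smul_eI (show 0 + 3 ≤ 4 by norm_num) (t := (1 : F)) (i := 0) (j := 1) (A := bl 3 2 0 (W hF))
      (by rw [W0_smul, one_smul])
    rw [one_smul] at h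
    exact h
  have point : ∀ t, ∃ a b : SU 3 F q, (bl 4 3 1 a : SU 4 F q) • (eI 1 : Fin 4 → F) = Four.mv γ t ∧
      (bl 4 3 1 a * w : SU 4 F q) • ((bl 4 3 1 b : SU 4 F q) • (eI 1 : Fin 4 → F)) = Four.vv γ := by
    intro t
    obtain ⟨h1, h2, h3, h4⟩ := mv_facts hF hγ t
    obtain ⟨A, hA, hAe⟩ := exists_fixS_one hF (n := 4) (S := {0}) (by decide) (x := eI 1) (x' := Four.mv γ t)
      (eI_mem_supp (by decide)) (fun i hi => by rw [Finset.mem_singleton.1 hi, ← herm_eI_right hF 0 (Four.mv γ t)]; exact h2)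
      (by rw [herm_eI_eI hF, if_pos rfl]) h1
    obtain ⟨a, rfl⟩ := exists_bl hF (k := 1) (a := 3) (b := 4) (by norm_num) (g := A) fun j hj => by
      obtain rfl : j = 0 := by omega
      exact mem_fixS.1 hA 0 (by simp)
    have haw : (bl 4 3 1 a * w : SU 4 F q) • (eI 0 : Fin 4 → F) = Four.mv γ t := by rw [mul_smul, hwe, hAe]
    obtain ⟨B, hB, hBe⟩ := exists_fixS_one hF (n := 4) (S := {0}) (by decide) (x := eI 1)
      (x' := (bl 4 3 1 a * w : SU 4 F q)⁻¹ • Four.vv γ)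
      (eI_mem_supp (by decide)) (fun i hi => by
        rw [Finset.mem_singleton.1 hi, ← herm_eI_right hF 0 (_ • _), ← herm_smul_SU (bl 4 3 1 a * w : SU 4 F q),
          smul_inv_smul, haw]
        exact (herm_eq_zero_comm hF).1 h3)
      (by rw [herm_eI_eI hF, if_pos rfl]) (by rw [herm_smul_SU, h4])
    obtain ⟨b, rfl⟩ := exists_bl hF (k := 1) (a := 3) (b := 4) (by norm_num) (g := B) fun j hj => by
      obtain rfl : j = 0 := by omega
      exact mem_fixS.1 hB 0 (by simp)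
    exact ⟨a, b, hAe, by rw [hBe, smul_inv_smul]⟩
  obtain ⟨a, b, ha, hb⟩ := point 0
  obtain ⟨a', b', ha', hb'⟩ := point t
  have h0 : Four.mv γ (0 : F) = eI 3 := funext fun i => by fin_cases i <;> simp [Four.mv, eI]
  have e : ∀ x y : SU 3 F q, (bl 4 3 1 x * w * bl 4 3 1 y * w : SU 4 F q) • (eI 0 : Fin 4 → F) =
      (bl 4 3 1 x * w : SU 4 F q) • ((bl 4 3 1 y : SU 4 F q) • eI 1) := fun x y => by
    simp only [mul_smul, hwe]
  obtain ⟨c, hc⟩ := exists_bl hF (k := 1) (a := 3) (b := 4) (by norm_num)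
    (g := (bl 4 3 1 a' * w * bl 4 3 1 b' * w)⁻¹ * (bl 4 3 1 a * w * bl 4 3 1 b * w)) fun j hj => by
      obtain rfl : j = 0 := by omega
      rw [mul_smul, e, hb, inv_smul_eq_iff, e, hb']
  exact ⟨a, a', b, b', c, ha.trans h0, ha', hb, by rw [hc, mul_inv_cancel_left]⟩

set_option maxHeartbeats 1000000 in
/-- The glued presentation over the field with nine elements. -/
theorem presOn_glue_small (hq : q = 3) (hn5 : 5 ≤ n) {k r l s : ℕ}
    {gS : Fin k → SU 3 F q} (hS : PresOn gS r) {gA : Fin l → alternatingGroup (Fin n)} (hA : PresOn gA s) :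
    ∃ g : Fin (k + l) → SU n F q, PresOn g (r + s + 10) := by
  classical
  obtain ⟨t1, t2, hspan⟩ := exists_span hF hq
  obtain ⟨γ, hγ⟩ := exists_norm_eq hF (t := (-1 : F)) (by rw [neg_pow_q hF, one_pow])
  obtain ⟨a1, a1', b1, b1', c1, x1, y1, z1, e1⟩ := exists_data hF hγ t1
  obtain ⟨a2, a2', b2, b2', c2, x2, y2, z2, e2⟩ := exists_data hF hγ t2
  let wd : ℕ → SU 3 F q → List (SU 3 F q ⊕ alternatingGroup (Fin n)) := fun j A =>
    [Sum.inr (G3.sig hn5 j), Sum.inl A, Sum.inr (G3.sig hn5 j)⁻¹]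
  let mk : SU 3 F q → SU 3 F q → SU 3 F q → SU 3 F q → SU 3 F q →
      List (SU 3 F q ⊕ alternatingGroup (Fin n)) × List (SU 3 F q ⊕ alternatingGroup (Fin n)) := fun a a' b b' c =>
    (wd 1 a ++ wd 0 (bl 3 2 0 (W hF)) ++ wd 1 b ++ wd 0 (bl 3 2 0 (W hF)),
      wd 1 a' ++ wd 0 (bl 3 2 0 (W hF)) ++ wd 1 b' ++ wd 0 (bl 3 2 0 (W hF)) ++ wd 1 c)
  refine (fun ⟨g, hg⟩ => ⟨g, hg.mono (by simp)⟩)
    (presOn_glue3 hF (by omega) hn5 hS hA [mk a1 a1' b1 b1' c1, mk a2 a2' b2 b2' c2] ?_ ?_)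
  · intro p hp
    have hj : ∀ j, j ≤ 1 → ∀ A, permSU (G3.sig hn5 j) * bl n 3 0 A * (permSU (G3.sig hn5 j))⁻¹ =
        (bl n 4 0 (bl 4 3 j A) : SU n F q) := fun j hj A => by
      rw [bl_eq (show 0 + 3 ≤ n by omega), bl_comp_apply (m := j) (by omega) (by omega) (Nat.zero_add j),
        bl_eq (show j + 3 ≤ n by omega)]
      exact permSU_conj _ (G3.sig_apply hn5 (by omega)) A
    have key : ∀ a a' b b' c : SU 3 F q,
        (bl 4 3 1 a * bl 4 3 0 (bl 3 2 0 (W hF)) * bl 4 3 1 b * bl 4 3 0 (bl 3 2 0 (W hF)) : SU 4 F q) =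
          bl 4 3 1 a' * bl 4 3 0 (bl 3 2 0 (W hF)) * bl 4 3 1 b' * bl 4 3 0 (bl 3 2 0 (W hF)) * bl 4 3 1 c →
        ev (bl n 3 0 : SU 3 F q →* SU n F q) permSU (mk a a' b b' c).1 =
          ev (bl n 3 0 : SU 3 F q →* SU n F q) permSU (mk a a' b b' c).2 := fun a a' b b' c e => by
      have h := congrArg (bl n 4 0 : SU 4 F q →* SU n F q) e
      simp only [map_mul, ← hj 0 (by norm_num), ← hj 1 le_rfl] at h
      simp only [mk, wd, List.cons_append, List.nil_append, ev_inl, ev_inr, ev_nil, map_inv, mul_one]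
      simpa only [mul_assoc] using h
    simp only [List.mem_cons, List.not_mem_nil, or_false] at hp
    rcases hp with rfl | rfl
    exacts [key _ _ _ _ _ e1, key _ _ _ _ _ e2]
  · intro H _ D hr
    refine Or.inr fun j hj => ?_
    have hb : EqBase hF ((D.sys hn5).head (show 4 ≤ n by omega)) := by
      refine ⟨γ, hγ, t1, t2, hspan, fun t ht => ?_⟩
      have h1 := hr _ (List.mem_cons_self ..)
      have h2 := hr (mk a2 a2' b2 b2' c2) (by simp)
      simp only [mk, wd, List.cons_append, List.nil_append, ev_inl, ev_inr, ev_nil, map_inv, mul_one] at h1 h2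
      rcases ht with rfl | rfl
      · refine ⟨a1, a1', b1, b1', c1, x1, y1, z1, e1, ?_⟩
        show D.psi hn5 1 _ * D.psi hn5 0 _ * _ * _ = _
        simpa [G3.psi, G3.sys, Sys.head, mul_assoc] using h1
      · refine ⟨a2, a2', b2, b2', c2, x2, y2, z2, e2, ?_⟩
        show D.psi hn5 1 _ * D.psi hn5 0 _ * _ * _ = _
        simpa [G3.psi, G3.sys, Sys.head, mul_assoc] using h2
    obtain ⟨f4, hf4⟩ := exists_four hF (by omega) _ hb
    obtain ⟨σ, hσ⟩ := exists_shift4 hn5 j hj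
    refine ⟨(MulAut.conj (D.π σ)).toMonoidHom.comp f4, fun i hi => MonoidHom.ext fun Y => ?_⟩
    have h := DFunLike.congr_fun (hf4 i hi) Y
    show D.π σ * f4 (bl 4 3 i Y) * (D.π σ)⁻¹ = D.psi hn5 (j + i) Y
    rw [show f4 (bl 4 3 i Y) = D.psi hn5 i Y from h]
    show D.π σ * (D.π (G3.sig hn5 i) * D.θ Y * (D.π (G3.sig hn5 i))⁻¹) * (D.π σ)⁻¹ =
      D.π (G3.sig hn5 (j + i)) * D.θ Y * (D.π (G3.sig hn5 (j + i)))⁻¹
    rw [← D.conj_eq_three hF (by omega) (σ := σ * G3.sig hn5 i) (τ := G3.sig hn5 (j + i)) (fun c => by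
      rw [Subgroup.coe_mul, Perm.mul_apply, G3.sig_apply hn5 (show i + 3 ≤ n by omega),
        G3.sig_apply hn5 (show j + i + 3 ≤ n by omega)]
      have := hσ ⟨i + c, by omega⟩
      refine Eq.trans ?_ (this.trans (Fin.ext (by simp [shift_val]; omega)))
      congr 1
      exact Fin.ext (by simp [shift_val])) Y, map_mul]
    group

end Cfsg.Agent.KSG55.U6
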