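import Cfsg.Agent.KSG55.U6.Perm
import Cfsg.Agent.KSG55.U6.Crit
import Cfsg.Agent.KSG55.Phan.Step
import Cfsg.Agent.KSG55.SUOdd.Main

/-! The group glued from `SU₃` and the alternating group. -/

set_option autoImplicit false
set_option linter.unusedSectionVars false

namespace Cfsg.Agent.KSG55.U6

open Equiv Cfsg.Agent.Unitary Cfsg.Agent.KSG55.Pres Cfsg.Agent.KSG55.Phan Cfsg.Agent.KSG55.SLn

universe u

variable {F : Type u} [Field F] [Fintype F] {n q : ℕ}

/-- The exchange of two coordinates. -/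
abbrev sw2 : SU 2 F q →* SU 2 F q := emap (pe (swap (0 : Fin 2) 1))

theorem sw2_sw2 (X : SU 2 F q) : sw2 (sw2 X) = X := by
  rw [← MonoidHom.comp_apply, emap_comp, show (pe (swap (0 : Fin 2) 1)).trans (pe (swap 0 1)) =
    Function.Embedding.refl _ from Function.Embedding.ext fun i => swap_apply_self _ _ i, emap_refl]

/-- The exchange of the first two pairs. -/
def rho (hn : 4 ≤ n) : alternatingGroup (Fin n) :=
  ⟨swap (Glue.o0 hn) (Glue.o2 hn) * swap (Glue.o1 hn) (Glue.o3 hn), by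
    rw [Perm.mem_alternatingGroup, map_mul, Perm.sign_swap (by simp [Fin.ext_iff]),
      Perm.sign_swap (by simp [Fin.ext_iff])]
    rfl⟩

theorem rho_o0 (hn : 4 ≤ n) : (rho hn : Perm (Fin n)) (Glue.o0 hn) = Glue.o2 hn := by
  show swap (Glue.o0 hn) (Glue.o2 hn) (swap (Glue.o1 hn) (Glue.o3 hn) (Glue.o0 hn)) = _
  rw [swap_apply_of_ne_of_ne (a := Glue.o1 hn) (by simp [Fin.ext_iff]) (by simp [Fin.ext_iff]), swap_apply_left]

theorem rho_o1 (hn : 4 ≤ n) : (rho hn : Perm (Fin n)) (Glue.o1 hn) = Glue.o3 hn := by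
  show swap (Glue.o0 hn) (Glue.o2 hn) (swap (Glue.o1 hn) (Glue.o3 hn) (Glue.o1 hn)) = _
  rw [swap_apply_left, swap_apply_of_ne_of_ne (by simp [Fin.ext_iff]) (by simp [Fin.ext_iff])]

theorem rho_sq (hn : 4 ≤ n) : rho hn * rho hn = 1 := by
  apply Subtype.ext
  have hc : Commute (swap (Glue.o1 hn) (Glue.o3 hn)) (swap (Glue.o0 hn) (Glue.o2 hn)) := by
    refine Perm.Disjoint.commute fun x => ?_
    by_cases hx : x = Glue.o1 hn ∨ x = Glue.o3 hn
    · right; rcases hx with rfl | rfl <;> apply swap_apply_of_ne_of_ne <;> simp [Fin.ext_iff]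
    · left; push Not at hx; exact swap_apply_of_ne_of_ne hx.1 hx.2
  show swap _ _ * swap _ _ * (swap _ _ * swap _ _) = 1
  rw [← mul_assoc, mul_assoc (swap (Glue.o0 hn) (Glue.o2 hn)), hc.eq, ← mul_assoc, swap_mul_self, one_mul,
    swap_mul_self]

theorem beta_o0 (hn : 4 ≤ n) : (Glue.beta hn : Perm (Fin n)) (Glue.o0 hn) = Glue.o1 hn := by
  show swap (Glue.o0 hn) (Glue.o1 hn) (swap (Glue.o2 hn) (Glue.o3 hn) (Glue.o0 hn)) = _
  rw [swap_apply_of_ne_of_ne (a := Glue.o2 hn) (by simp [Fin.ext_iff]) (by simp [Fin.ext_iff]), swap_apply_left]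

theorem beta_o1 (hn : 4 ≤ n) : (Glue.beta hn : Perm (Fin n)) (Glue.o1 hn) = Glue.o0 hn := by
  show swap (Glue.o0 hn) (Glue.o1 hn) (swap (Glue.o2 hn) (Glue.o3 hn) (Glue.o1 hn)) = _
  rw [swap_apply_of_ne_of_ne (a := Glue.o2 hn) (by simp [Fin.ext_iff]) (by simp [Fin.ext_iff]), swap_apply_right]

/-- The corner `SU₂` inside `SU₃`. -/
abbrev io : SU 2 F q →* SU 3 F q := bl 3 2 0

/-- The gluing data. -/
structure G3 (F : Type u) [Field F] [Fintype F] (q : ℕ) (hn : 4 ≤ n) (H : Type*) [Group H] where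
  θ : SU 3 F q →* H
  π : alternatingGroup (Fin n) →* H
  compat : θ (permSU c3) = π (w0 hn)
  cent : ∀ τ : alternatingGroup (Fin n), (τ : Perm (Fin n)) (Glue.o0 hn) = Glue.o0 hn →
    (τ : Perm (Fin n)) (Glue.o1 hn) = Glue.o1 hn → ∀ X, Commute (π τ) (θ (io X))
  flip : ∀ X, π (Glue.beta hn) * θ (io X) * (π (Glue.beta hn))⁻¹ = θ (io (sw2 X))
  base : ∀ X Y, Commute (θ (io X)) (π (rho hn) * θ (io Y) * (π (rho hn))⁻¹)

namespace G3

variable {hn : 4 ≤ n} {H : Type*} [Group H] (D : G3 F q hn H)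

theorem conj_eq {σ τ : alternatingGroup (Fin n)} (h0 : (σ : Perm (Fin n)) (Glue.o0 hn) = (τ : Perm (Fin n)) (Glue.o0 hn))
    (h1 : (σ : Perm (Fin n)) (Glue.o1 hn) = (τ : Perm (Fin n)) (Glue.o1 hn)) (X : SU 2 F q) :
    D.π σ * D.θ (io X) * (D.π σ)⁻¹ = D.π τ * D.θ (io X) * (D.π τ)⁻¹ := by
  have hc := (D.cent (τ⁻¹ * σ) (by rw [Subgroup.coe_mul, Subgroup.coe_inv, Perm.mul_apply, h0, Perm.inv_eq_iff_eq])
    (by rw [Subgroup.coe_mul, Subgroup.coe_inv, Perm.mul_apply, h1, Perm.inv_eq_iff_eq]) X).eq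
  calc D.π σ * D.θ (io X) * (D.π σ)⁻¹
      = D.π τ * (D.π (τ⁻¹ * σ) * D.θ (io X) * (D.π (τ⁻¹ * σ))⁻¹) * (D.π τ)⁻¹ := by rw [map_mul, map_inv]; group
    _ = _ := by rw [hc, mul_inv_cancel_right]

theorem exists_sigma (hn5 : 5 ≤ n) (k : ℕ) : ∃ σ : alternatingGroup (Fin n), (k = 0 → σ = 1) ∧
    ∀ hk : k + 3 ≤ n, ∀ i, (σ : Perm (Fin n)) (shift 0 (show 0 + 3 ≤ n by omega) i) = shift k hk i := by
  by_cases h : k = 0
  · subst h; exact ⟨1, fun _ => rfl, fun hk i => rfl⟩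
  by_cases hk : k + 3 ≤ n
  · obtain ⟨σ, hσ⟩ := exists_even (k := 3) (by omega) (shift 0 (show 0 + 3 ≤ n by omega)) (shift k hk)
    exact ⟨σ, fun h' => absurd h' h, fun _ i => hσ i⟩
  · exact ⟨1, fun _ => rfl, fun h' => absurd h' hk⟩

theorem exists_tau (hn5 : 5 ≤ n) (k : ℕ) : ∃ σ : alternatingGroup (Fin n),
    ∀ hk : k + 2 ≤ n, ∀ i, (σ : Perm (Fin n)) (shift 0 (show 0 + 2 ≤ n by omega) i) = shift k hk i := by
  by_cases hk : k + 2 ≤ n
  · obtain ⟨σ, hσ⟩ := exists_even (k := 2) (by omega) (shift 0 (show 0 + 2 ≤ n by omega)) (shift k hk)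
    exact ⟨σ, fun _ i => hσ i⟩
  · exact ⟨1, fun h' => absurd h' hk⟩

/-- The chosen permutation of a triple. -/
noncomputable def sig (hn5 : 5 ≤ n) (k : ℕ) : alternatingGroup (Fin n) := (exists_sigma (n := n) hn5 k).choose

/-- The chosen permutation of a pair. -/
noncomputable def tau (hn5 : 5 ≤ n) (k : ℕ) : alternatingGroup (Fin n) := (exists_tau (n := n) hn5 k).choose

theorem sig_zero (hn5 : 5 ≤ n) : sig hn5 0 = (1 : alternatingGroup (Fin n)) :=
  (exists_sigma (n := n) hn5 0).choose_spec.1 rfl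

theorem sig_apply (hn5 : 5 ≤ n) {k : ℕ} (hk : k + 3 ≤ n) (i : Fin 3) :
    (sig hn5 k : Perm (Fin n)) (shift 0 (show 0 + 3 ≤ n by omega) i) = shift k hk i :=
  (exists_sigma (n := n) hn5 k).choose_spec.2 hk i

theorem tau_apply (hn5 : 5 ≤ n) {k : ℕ} (hk : k + 2 ≤ n) (i : Fin 2) :
    (tau hn5 k : Perm (Fin n)) (shift 0 (show 0 + 2 ≤ n by omega) i) = shift k hk i :=
  (exists_tau (n := n) hn5 k).choose_spec hk i

/-- The triples. -/
noncomputable def psi (hn5 : 5 ≤ n) (k : ℕ) : SU 3 F q →* H :=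
  (MulAut.conj (D.π (sig hn5 k))).toMonoidHom.comp D.θ

/-- The pairs. -/
noncomputable def chi (hn5 : 5 ≤ n) (k : ℕ) : SU 2 F q →* H :=
  (MulAut.conj (D.π (tau hn5 k))).toMonoidHom.comp (D.θ.comp io)

theorem io_rot (X : SU 2 F q) : (bl 3 2 1 X : SU 3 F q) = permSU c3 * io X * (permSU c3)⁻¹ := by
  rw [io, bl_eq (show 0 + 2 ≤ 3 by norm_num), bl_eq (show 1 + 2 ≤ 3 by norm_num)]
  exact (permSU_conj c3 (fun i => by rw [c3_apply]; fin_cases i <;> rfl) X).symm

theorem w0_o0 : (w0 hn : Perm (Fin n)) (Glue.o0 hn) = Glue.o1 hn := w0_pt3 hn 0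

theorem w0_o1 : (w0 hn : Perm (Fin n)) (Glue.o1 hn) = Glue.o2 hn := w0_pt3 hn 1

/-- The coherent system. -/
noncomputable def sys (hn5 : 5 ≤ n) : Sys F q n H where
  χ := D.chi hn5
  ψ := D.psi hn5
  left k hk := MonoidHom.ext fun X => by
    exact D.conj_eq ((sig_apply hn5 hk 0).trans (tau_apply hn5 (show k + 2 ≤ n by omega) 0).symm)
      ((sig_apply hn5 hk 1).trans (tau_apply hn5 (show k + 2 ≤ n by omega) 1).symm) X
  right k hk := MonoidHom.ext fun X => by
    show D.π (sig hn5 k) * D.θ (bl 3 2 1 X) * (D.π (sig hn5 k))⁻¹ = _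
    rw [io_rot, map_mul, map_mul, map_inv, D.compat,
      show D.π (sig hn5 k) * (D.π (w0 hn) * D.θ (io X) * (D.π (w0 hn))⁻¹) * (D.π (sig hn5 k))⁻¹ =
        D.π (sig hn5 k * w0 hn) * D.θ (io X) * (D.π (sig hn5 k * w0 hn))⁻¹ by rw [map_mul]; group]
    refine D.conj_eq ?_ ?_ X
    · rw [Subgroup.coe_mul, Perm.mul_apply, w0_o0]
      exact (sig_apply hn5 hk 1).trans (Fin.ext rfl : _ = shift (k + 1) (show k + 1 + 2 ≤ n by omega) 0) |>.trans
        (tau_apply hn5 (show k + 1 + 2 ≤ n by omega) 0).symm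
    · rw [Subgroup.coe_mul, Perm.mul_apply, w0_o1]
      exact (sig_apply hn5 hk 2).trans (Fin.ext (by simp [shift_val]) : _ = shift (k + 1) (show k + 1 + 2 ≤ n by omega) 1) |>.trans
        (tau_apply hn5 (show k + 1 + 2 ≤ n by omega) 1).symm
  comm i j hij hj A B := by
    let g : Fin 4 ↪ Fin n := ⟨![⟨i, by omega⟩, ⟨i + 1, by omega⟩, ⟨j, by omega⟩, ⟨j + 1, by omega⟩], fun a b e => by
      fin_cases a <;> fin_cases b <;> simp [Fin.ext_iff] at e ⊢ <;> omega⟩
    obtain ⟨σ, s0, s1, s23⟩ := exists_even_four (shift 0 (show 0 + 4 ≤ n by omega)) g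
    have hA : D.chi hn5 i A = D.π σ * D.θ (io A) * (D.π σ)⁻¹ :=
      D.conj_eq ((tau_apply hn5 (show i + 2 ≤ n by omega) 0).trans s0.symm)
        ((tau_apply hn5 (show i + 2 ≤ n by omega) 1).trans s1.symm) A
    rw [hA]
    rcases s23 with ⟨s2, s3⟩ | ⟨s2, s3⟩
    · have hB : D.chi hn5 j B = D.π (σ * rho hn) * D.θ (io B) * (D.π (σ * rho hn))⁻¹ := by
        refine D.conj_eq ((tau_apply hn5 hj 0).trans ?_) ((tau_apply hn5 hj 1).trans ?_) B
        · rw [Subgroup.coe_mul, Perm.mul_apply, rho_o0]; exact s2.symm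
        · rw [Subgroup.coe_mul, Perm.mul_apply, rho_o1]; exact s3.symm
      rw [hB, map_mul, show D.π σ * D.π (rho hn) * D.θ (io B) * (D.π σ * D.π (rho hn))⁻¹ =
        D.π σ * (D.π (rho hn) * D.θ (io B) * (D.π (rho hn))⁻¹) * (D.π σ)⁻¹ by group]
      exact (Commute.conj_iff _).mpr (D.base A B)
    · have hB : D.chi hn5 j B = D.π (σ * rho hn * Glue.beta hn) * D.θ (io B) * (D.π (σ * rho hn * Glue.beta hn))⁻¹ := by
        refine D.conj_eq ((tau_apply hn5 hj 0).trans ?_) ((tau_apply hn5 hj 1).trans ?_) B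
        · rw [Subgroup.coe_mul, Perm.mul_apply, beta_o0, Subgroup.coe_mul, Perm.mul_apply, rho_o1]; exact s3.symm
        · rw [Subgroup.coe_mul, Perm.mul_apply, beta_o1, Subgroup.coe_mul, Perm.mul_apply, rho_o0]; exact s2.symm
      rw [hB, map_mul, map_mul, show D.π σ * D.π (rho hn) * D.π (Glue.beta hn) * D.θ (io B) *
        (D.π σ * D.π (rho hn) * D.π (Glue.beta hn))⁻¹ =
        D.π σ * (D.π (rho hn) * (D.π (Glue.beta hn) * D.θ (io B) * (D.π (Glue.beta hn))⁻¹) * (D.π (rho hn))⁻¹) *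
          (D.π σ)⁻¹ by group, D.flip]
      exact (Commute.conj_iff _).mpr (D.base A (sw2 B))

end G3

/-- The four point system extends to `SU₄`, when the field is small. -/
def HBase {hn : 4 ≤ n} {H : Type*} [Group H] (D : G3 F q hn H) (hn5 : 5 ≤ n) : Prop :=
  4 ≤ q ∨ ∀ k, k + 4 ≤ n → ∃ f4 : SU 4 F q →* H, ∀ j, j + 3 ≤ 4 → f4.comp (bl 4 3 j) = (D.sys hn5).ψ (k + j)

theorem model_compat (hn : 4 ≤ n) : (bl n 3 0 (permSU c3 : SU 3 F q) : SU n F q) = permSU (w0 hn) := by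
  rw [bl_eq (show 0 + 3 ≤ n by omega)]
  refine eq_of_smul_eq_SU fun v => ext_parts (shift 0 (show 0 + 3 ≤ n by omega)) (fun i => ?_) fun j hj => ?_
  · rw [emap_apply, permSU_smul, permSU_smul, Function.comp_apply]
    congr 1
    have hs : ∀ c, shift 0 (show 0 + 3 ≤ n by omega) c = Glue.e3 hn c := fun c => Fin.ext (Nat.zero_add _)
    obtain ⟨c, rfl⟩ := (c3 : Perm (Fin 3)).surjective i
    rw [Equiv.symm_apply_apply, eq_comm, Equiv.symm_apply_eq, hs, hs, w0_pt3, c3_apply]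
  · rw [emap_off _ _ _ hj, permSU_smul]
    congr 1
    rw [eq_comm, Equiv.symm_apply_eq, eq_comm]
    refine cyc3_of_ne ?_ ?_ ?_
    · exact fun e => hj 0 (by rw [e]; exact Fin.ext rfl)
    · exact fun e => hj 1 (by rw [e]; exact Fin.ext rfl)
    · exact fun e => hj 2 (by rw [e]; exact Fin.ext rfl)

theorem model_io (X : SU 2 F q) (h : 3 ≤ n) : (bl n 3 0 (io X) : SU n F q) = bl n 2 0 X :=
  bl_comp_apply (m := 0) (by omega) (by norm_num) rfl X

theorem model_conj (hn : 4 ≤ n) (σ : alternatingGroup (Fin n)) (g : Fin 2 ↪ Fin n)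
    (h : ∀ i, (σ : Perm (Fin n)) (shift 0 (show 0 + 2 ≤ n by omega) i) = g i) (X : SU 2 F q) :
    permSU σ * bl n 3 0 (io X) * (permSU σ)⁻¹ = (emap g X : SU n F q) := by
  rw [model_io X (by omega), bl_eq (show 0 + 2 ≤ n by omega)]
  exact permSU_conj σ h X

set_option maxHeartbeats 1000000 in
/-- The glued presentation. -/
theorem presOn_glue3 (hF : Fintype.card F = q ^ 2) (hq : 3 ≤ q) (hn5 : 5 ≤ n) {k r l s : ℕ}
    {gS : Fin k → SU 3 F q} (hS : PresOn gS r) {gA : Fin l → alternatingGroup (Fin n)} (hA : PresOn gA s)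
    (Rx : List (List (SU 3 F q ⊕ alternatingGroup (Fin n)) × List (SU 3 F q ⊕ alternatingGroup (Fin n))))
    (hxmodel : ∀ p ∈ Rx, ev (bl n 3 0 : SU 3 F q →* SU n F q) permSU p.1 = ev (bl n 3 0 : SU 3 F q →* SU n F q) permSU p.2)
    (hx : ∀ (H : Type) [Group H] (D : G3 F q (show 4 ≤ n by omega) H),
      (∀ p ∈ Rx, ev D.θ D.π p.1 = ev D.θ D.π p.2) → HBase D hn5) :
    ∃ g : Fin (k + l) → SU n F q, PresOn g (r + s + (8 + Rx.length)) := by
  classical
  have hn : 4 ≤ n := by omega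
  obtain ⟨a, b, hab⟩ := SUOdd.two_gen_two (q := q) hF
  obtain ⟨αs, hα1, -, hfix, hgen⟩ := alphas hn
  let ι : SU 2 F q → List (SU 3 F q ⊕ alternatingGroup (Fin n)) := fun m => [Sum.inl (io m)]
  let cR : alternatingGroup (Fin n) → SU 2 F q → List (SU 3 F q ⊕ alternatingGroup (Fin n)) := fun σ m =>
    [Sum.inr σ, Sum.inl (io m), Sum.inr σ⁻¹]
  let Rs : List (List (SU 3 F q ⊕ alternatingGroup (Fin n)) × List (SU 3 F q ⊕ alternatingGroup (Fin n))) :=
    [([Sum.inl (permSU c3)], [Sum.inr (w0 hn)]),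
      (cR (Glue.beta hn) a, ι (sw2 a)), (cR (Glue.beta hn) b, ι (sw2 b)),
      (ι a ++ cR (rho hn) a, cR (rho hn) a ++ ι a), (ι a ++ cR (rho hn) b, cR (rho hn) b ++ ι a),
      (ι b ++ cR (rho hn) b, cR (rho hn) b ++ ι b)] ++
    αs.map (fun α => ([Sum.inr α, Sum.inl (io a)], [Sum.inl (io a), Sum.inr α])) ++
    αs.map (fun α => ([Sum.inr α, Sum.inl (io b)], [Sum.inl (io b), Sum.inr α])) ++ Rx
  have hlen : Rs.length ≤ 8 + Rx.length := by
    simp only [Rs, List.length_append, List.length_map, List.length_cons, List.length_nil]; omega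
  have hcomm_model : ∀ m m', Commute (bl n 3 0 (io m) : SU n F q)
      (permSU (rho hn) * bl n 3 0 (io m') * (permSU (rho hn))⁻¹) := fun m m' => by
    rw [model_conj hn (rho hn) (shift 2 (show 2 + 2 ≤ n by omega)) (fun i => by
      fin_cases i
      · exact rho_o0 hn
      · exact rho_o1 hn) m', model_io m (by omega), ← bl_eq]
    exact bl_commute le_rfl (by omega) m m'
  have hflip_model : ∀ m, permSU (Glue.beta hn) * bl n 3 0 (io m) * (permSU (Glue.beta hn))⁻¹ =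
      (bl n 3 0 (io (sw2 m)) : SU n F q) := fun m => by
    rw [model_conj hn (Glue.beta hn) ((pe (swap (0 : Fin 2) 1)).trans (shift 0 (show 0 + 2 ≤ n by omega)))
      (fun i => by
        fin_cases i
        · exact (beta_o0 hn).trans (Fin.ext rfl)
        · exact (beta_o1 hn).trans (Fin.ext rfl)) m, model_io _ (by omega), bl_eq (show 0 + 2 ≤ n by omega),
      sw2, ← MonoidHom.comp_apply, emap_comp]
  have hcent_model : ∀ α ∈ αs, ∀ m, (permSU α : SU n F q) * bl n 3 0 (io m) = bl n 3 0 (io m) * permSU α :=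
    fun α hα m => by
      rw [← mul_inv_eq_iff_eq_mul, model_conj hn α (shift 0 (show 0 + 2 ≤ n by omega)) (fun i => by
        fin_cases i
        · exact (hfix α hα).1
        · exact (hfix α hα).2) m, model_io m (by omega), bl_eq]
  refine ⟨_, (presOn_two_factor hS hA (bl n 3 0) permSU Rs ?_ ?_ ?_).mono (by omega)⟩
  · intro p hp
    simp only [Rs, List.mem_append, List.mem_cons, List.not_mem_nil, or_false, List.mem_map] at hp
    rcases hp with (((rfl | rfl | rfl | rfl | rfl | rfl) | ⟨α, hα, rfl⟩) | ⟨α, hα, rfl⟩) | hp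
    · simpa using model_compat hn
    · simpa [ι, cR, mul_assoc] using hflip_model a
    · simpa [ι, cR, mul_assoc] using hflip_model b
    · simpa [ι, cR, mul_assoc] using (hcomm_model a a).eq
    · simpa [ι, cR, mul_assoc] using (hcomm_model a b).eq
    · simpa [ι, cR, mul_assoc] using (hcomm_model b b).eq
    · simpa using hcent_model α hα a
    · simpa using hcent_model α hα b
    · exact hxmodel p hp
  · refine gen_top hF hq (by omega) _ fun j hj X => ?_
    rw [bl_eq hj, ← model_conj hn (G3.tau hn5 j) (shift j hj) (G3.tau_apply hn5 hj) X]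
    exact mul_mem (mul_mem (Subgroup.mem_sup_right ⟨_, rfl⟩) (Subgroup.mem_sup_left ⟨_, rfl⟩))
      (inv_mem (Subgroup.mem_sup_right ⟨_, rfl⟩))
  intro H _ θ π φ hH hφθ hφπ hr
  have hR : ∀ p ∈ Rs, ev θ π p.1 = ev θ π p.2 := hr
  simp only [Rs, List.forall_mem_append, List.forall_mem_cons, List.forall_mem_map] at hR
  obtain ⟨⟨⟨⟨hc, hfa, hfb, hbaa, hbab, hbbb, -⟩, hca⟩, hcb⟩, hxr⟩ := hR
  simp only [ι, cR, List.cons_append, List.nil_append, ev_inl, ev_inr, ev_nil, mul_one, map_inv, ← mul_assoc] at hc hfa hfb hbaa hbab hbbb hca hcb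
  have hflip : ∀ X, π (Glue.beta hn) * θ (io X) * (π (Glue.beta hn))⁻¹ = θ (io (sw2 X)) := fun X => by
    refine DFunLike.congr_fun (MonoidHom.eq_of_eqOn_dense hab (f := (MulAut.conj (π (Glue.beta hn))).toMonoidHom.comp
      (θ.comp io)) (g := (θ.comp io).comp sw2) ?_) X
    rintro m (rfl | rfl)
    exacts [hfa, hfb]
  let Cι : Subgroup (alternatingGroup (Fin n)) :=
    { carrier := {τ | ∀ m, Commute (π τ) (θ (io m))}
      one_mem' := fun m => by rw [map_one]; exact Commute.one_left _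
      mul_mem' := fun hx hy m => by rw [map_mul]; exact (hx m).mul_left (hy m)
      inv_mem' := fun hx m => by rw [map_inv]; exact (hx m).inv_left }
  have hαC : ∀ α ∈ αs, α ∈ Cι := fun α hα m => by
    refine mul_inv_eq_iff_eq_mul.mp (DFunLike.congr_fun (MonoidHom.eq_of_eqOn_dense hab
      (f := (MulAut.conj (π α)).toMonoidHom.comp (θ.comp io)) (g := θ.comp io) ?_) m)
    rintro m' (rfl | rfl)
    exacts [mul_inv_eq_iff_eq_mul.mpr (hca α hα), mul_inv_eq_iff_eq_mul.mpr (hcb α hα)]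
  have hbb : ∀ m m', Commute (θ (io m)) (π (rho hn) * θ (io m') * (π (rho hn))⁻¹) →
      Commute (θ (io m')) (π (rho hn) * θ (io m) * (π (rho hn))⁻¹) := fun m m' h => by
    have h2 := ((Commute.conj_iff (π (rho hn))).mpr h).symm
    have hsq : π (rho hn) * π (rho hn) = 1 := by rw [← map_mul, rho_sq, map_one]
    rw [show π (rho hn) * (π (rho hn) * θ (io m') * (π (rho hn))⁻¹) * (π (rho hn))⁻¹ =
      (π (rho hn) * π (rho hn)) * θ (io m') * (π (rho hn) * π (rho hn))⁻¹ by group, hsq, one_mul, inv_one,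
      mul_one] at h2
    exact h2
  have hbase : ∀ X Y, Commute (θ (io X)) (π (rho hn) * θ (io Y) * (π (rho hn))⁻¹) := by
    have aa : Commute (θ (io a)) (π (rho hn) * θ (io a) * (π (rho hn))⁻¹) := by
      show _ = _; simpa only [← mul_assoc] using hbaa
    have abm : Commute (θ (io a)) (π (rho hn) * θ (io b) * (π (rho hn))⁻¹) := by
      show _ = _; simpa only [← mul_assoc] using hbab
    have bb : Commute (θ (io b)) (π (rho hn) * θ (io b) * (π (rho hn))⁻¹) := by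
      show _ = _; simpa only [← mul_assoc] using hbbb
    have gen : ∀ m ∈ ({a, b} : Set (SU 2 F q)), ∀ Y, Commute (θ (io m)) (π (rho hn) * θ (io Y) * (π (rho hn))⁻¹) := by
      intro m hm Y
      refine mul_inv_eq_iff_eq_mul.mp (DFunLike.congr_fun (MonoidHom.eq_of_eqOn_dense hab
        (f := (MulAut.conj (θ (io m))).toMonoidHom.comp ((MulAut.conj (π (rho hn))).toMonoidHom.comp (θ.comp io)))
        (g := (MulAut.conj (π (rho hn))).toMonoidHom.comp (θ.comp io)) ?_) Y)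
      rintro m' (rfl | rfl) <;> refine mul_inv_eq_iff_eq_mul.mpr ?_ <;> rcases hm with rfl | rfl
      exacts [aa.eq, (hbb _ _ abm).eq, abm.eq, bb.eq]
    intro X Y
    refine Commute.symm (mul_inv_eq_iff_eq_mul.mp (DFunLike.congr_fun (MonoidHom.eq_of_eqOn_dense hab
      (f := (MulAut.conj (π (rho hn) * θ (io Y) * (π (rho hn))⁻¹)).toMonoidHom.comp (θ.comp io))
      (g := θ.comp io) ?_) X))
    intro m hm
    exact mul_inv_eq_iff_eq_mul.mpr (gen m hm Y).eq.symm
  let D : G3 F q hn H :=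
    { θ := θ
      π := π
      compat := hc
      cent := fun τ h0 h1 => by
        refine (Subgroup.closure_le Cι).mpr ?_ (hgen τ h0 h1)
        rintro y (hy | ⟨y, hy, rfl⟩)
        · exact hαC y hy
        · intro m
          rw [show θ (io m) = π (Glue.beta hn) * θ (io (sw2 m)) * (π (Glue.beta hn))⁻¹ by rw [hflip, sw2_sw2],
            map_mul, map_mul, map_inv]
          exact (Commute.conj_iff _).mpr (hαC y hy (sw2 m))
      flip := hflip
      base := hbase }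
  -- the universal map
  let up : H →* ULift.{u} H := (MulEquiv.ulift.{0, u} (α := H)).symm.toMonoidHom
  let S : Sys F q n (ULift.{u} H) :=
    { χ := fun j => up.comp ((D.sys hn5).χ j)
      ψ := fun j => up.comp ((D.sys hn5).ψ j)
      left := fun j hj => by rw [MonoidHom.comp_assoc, (D.sys hn5).left j hj]
      right := fun j hj => by rw [MonoidHom.comp_assoc, (D.sys hn5).right j hj]
      comm := fun i j hij hj A B => ((D.sys hn5).comm i j hij hj A B).map up }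
  obtain ⟨f', hf'⟩ := universal_of.{u, 0} hF hq (show 3 ≤ n by omega) S ((hx H D hxr).imp id fun hb j hj => by
    obtain ⟨f4, hf4⟩ := hb j hj
    exact ⟨up.comp f4, fun i hi => by rw [MonoidHom.comp_assoc, hf4 i hi]⟩)
  let f : SU n F q →* H := (MulEquiv.ulift.{0, u} (α := H)).toMonoidHom.comp f'
  have hf : ∀ j, j + 3 ≤ n → ∀ Y, f (bl n 3 j Y) = D.psi hn5 j Y := fun j hj Y =>
    congrArg ULift.down (DFunLike.congr_fun (hf' j hj) Y)
  have hR : ∀ j, j + 3 ≤ n → ∀ Y, D.psi hn5 j Y ∈ f.range := fun j hj Y => ⟨_, hf j hj Y⟩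
  have hθR : ∀ Y, θ Y ∈ f.range := fun Y => by
    have := hR 0 (by omega) Y
    simpa [G3.psi, G3.sig_zero, D] using this
  have hπR : f.range.comap π = ⊤ := eq_top_of_consecutive hn5 _ fun j hj => by
    refine ⟨G3.sig hn5 j * w0 hn * (G3.sig hn5 j)⁻¹, ?_, ?_⟩
    · show π _ ∈ f.range
      rw [map_mul, map_mul, map_inv, ← hc]
      exact hR j hj _
    · rw [Subgroup.coe_mul, Subgroup.coe_mul, Subgroup.coe_inv]
      show _ * cyc3 _ _ _ * _ = _
      rw [cyc3_conj]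
      exact congr (congrArg₂ cyc3 (G3.sig_apply hn5 hj 0) (G3.sig_apply hn5 hj 1)) (G3.sig_apply hn5 hj 2)
  have hsurj : Function.Surjective f := by
    rw [← MonoidHom.range_eq_top, eq_top_iff, ← hH]
    refine sup_le ?_ ?_
    · rintro _ ⟨Y, rfl⟩; exact hθR Y
    · rintro _ ⟨τ, rfl⟩; exact ((Subgroup.eq_top_iff' _).mp hπR) τ
  have hid : φ.comp f = MonoidHom.id _ := by
    have hb3 : ∀ j, j + 3 ≤ n → ∀ Y, φ (f (bl n 3 j Y)) = bl n 3 j Y := fun j hj Y => by
      rw [hf j hj Y]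
      show φ (π _ * θ Y * (π _)⁻¹) = _
      rw [map_mul, map_mul, map_inv, ← MonoidHom.comp_apply, hφπ, ← MonoidHom.comp_apply, hφθ,
        bl_eq (show 0 + 3 ≤ n by omega), bl_eq hj]
      exact permSU_conj _ (G3.sig_apply hn5 hj) Y
    have := gen_top hF hq (show 2 ≤ n by omega) ((φ.comp f).eqLocus (MonoidHom.id _)) fun j hj X => by
      show φ (f (bl n 2 j X)) = bl n 2 j X
      by_cases h : j + 3 ≤ n
      · rw [← bl_comp_apply (m := j) h (show 0 + 2 ≤ 3 by norm_num) (Nat.add_zero j) X]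
        exact hb3 j h _
      · obtain ⟨i, rfl⟩ : ∃ i, j = i + 1 := ⟨j - 1, by omega⟩
        rw [← bl_comp_apply (m := i + 1) (show i + 3 ≤ n by omega) (show 1 + 2 ≤ 3 by norm_num) rfl X]
        exact hb3 i (by omega) _
    exact MonoidHom.ext fun Y => (Subgroup.eq_top_iff' _).mp this Y
  intro x hx
  obtain ⟨Y, rfl⟩ := hsurj x
  rw [show φ (f Y) = Y from DFunLike.congr_fun hid Y] at hx
  rw [hx, map_one]

end Cfsg.Agent.KSG55.U6
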