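import Cfsg.Agent.KSG55.U6.TwoData

/-!
Small point sets in the glued group over the field with four elements, and commutation of disjoint triangles.
-/

set_option autoImplicit false
set_option linter.unusedSectionVars false

namespace Cfsg.Agent.KSG55.U6

open Equiv Cfsg.Agent.Unitary Cfsg.Agent.KSG55.Pres Cfsg.Agent.KSG55.Phan Cfsg.Agent.KSG55.SLn

universe u v

variable {F : Type u} [Field F] [Fintype F] {n q : ℕ}

theorem ext_eI {g h : SU n F q} (H : ∀ j, g • (eI j : Fin n → F) = h • eI j) : g = h :=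
  Subtype.ext (Subtype.ext (Matrix.ext_of_mulVec_single H))

theorem diag_emap {a : ℕ} (g : Fin a ↪ Fin n) (d : Fin a → F) (hd : ∀ i, d i ^ (q + 1) = 1) (hp : ∏ i, d i = 1)
    (v : Fin n → F) : (emap g (dg d hd hp) : SU n F q) • v = fun j => Function.extend g d 1 j * v j := by
  refine ext_parts g (fun i => ?_) fun j hj => ?_
  · rw [emap_apply, dg_smul, g.injective.extend_apply]; rfl
  · rw [emap_off g _ _ hj]
    rw [Function.extend_apply' _ _ _ fun ⟨i, e⟩ => hj i e, Pi.one_apply, one_mul]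

/-- A diagonal element acts on an embedded group by a twist. -/
theorem conj_diag {a : ℕ} (f : Fin a ↪ Fin n) {g : SU n F q} {c : Fin n → F}
    (hg : ∀ v : Fin n → F, g • v = fun j => c j * v j) {d : Fin a → F} (hd : ∀ i, d i ^ (q + 1) = 1)
    (hcd : ∀ i, c (f i) = d i) (A : SU a F q) :
    g * emap f A * g⁻¹ = emap f (twist (RingEquiv.refl F) d hd A) := by
  rw [mul_inv_eq_iff_eq_mul]
  refine eq_of_smul_eq_SU fun v => ?_
  rw [mul_smul, mul_smul, hg, hg]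
  refine ext_parts f (fun i => ?_) fun j hj => ?_
  · rw [emap_apply, emap_apply, hcd, show ((fun j => c j * v j) ∘ f) = tvec (RingEquiv.refl F) d (v ∘ f) from
      funext fun l => by simp [tvec, hcd], twist_tvec]
    rfl
  · rw [emap_off f _ _ hj, emap_off f _ _ hj]

theorem commute_diag {g h : SU n F q} {c c' : Fin n → F} (hg : ∀ v : Fin n → F, g • v = fun j => c j * v j)
    (hh : ∀ v : Fin n → F, h • v = fun j => c' j * v j) : Commute g h := eq_of_smul_eq_SU fun v => by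
  rw [mul_smul, mul_smul, hh, hg, hg, hh]
  funext j; ring

variable (hF : Fintype.card F = q ^ 2)

include hF

/-- The exchange element moves coordinates. -/
theorem pair_smul (hq : q = 2) (f : Fin 2 ↪ Fin n) (j : Fin n) :
    (emap f (W hF) : SU n F q) • (eI j : Fin n → F) = eI (swap (f 0) (f 1) j) := by
  by_cases h : ∃ i, f i = j
  · obtain ⟨i, rfl⟩ := h
    have hW : ∀ i, W hF • (eI i : Fin 2 → F) = eI (swap 0 1 i) := fun i => by
      fin_cases i
      · have := (W_smul hF).1; rw [one_smul] at this; simpa using this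
      · have := (W_smul hF).2; rw [neg_eq_self hF hq (1 : F), one_smul] at this; simpa using this
    rw [← f.injective.map_swap]
    refine ext_parts f (fun l => ?_) fun l hl => ?_
    · rw [emap_apply, show (eI (f i) : Fin n → F) ∘ f = eI i from
        funext fun m => by simp [eI, Pi.single_apply, f.injective.eq_iff], hW]
      simp [eI, Pi.single_apply, f.injective.eq_iff]
    · rw [emap_off f _ _ hl]
      simp [eI, Ne.symm (hl i), Ne.symm (hl (swap 0 1 i))]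
  · push Not at h
    rw [emap_fix f _ h, swap_apply_of_ne_of_ne (Ne.symm (h 0)) (Ne.symm (h 1))]

namespace G2

variable {hn : 4 ≤ n} {hn5 : 5 ≤ n} {H : Type v} [Group H] (D : G2 F q hn hn5 H)

/-- A point set with the expected group. -/
def Good (S : Finset (Fin n)) : Prop :=
  (∀ x ∈ D.HS S, D.φ x = 1 → x = 1) ∧
    ∀ g : SU n F q, (∀ j ∉ S, g • (eI j : Fin n → F) = eI j) → ∃ x ∈ D.HS S, D.φ x = g

omit hF in
theorem Good.eq {S : Finset (Fin n)} (h : D.Good S) {x y : H} (hx : x ∈ D.HS S) (hy : y ∈ D.HS S)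
    (e : D.φ x = D.φ y) : x = y :=
  mul_inv_eq_one.1 (h.1 _ (mul_mem hx (inv_mem hy)) (by rw [map_mul, map_inv, e, mul_inv_cancel]))

omit hF in
theorem Good.commute {S : Finset (Fin n)} (h : D.Good S) {x y : H} (hx : x ∈ D.HS S) (hy : y ∈ D.HS S)
    (e : Commute (D.φ x) (D.φ y)) : Commute x y :=
  h.eq D (mul_mem hx hy) (mul_mem hy hx) (by rw [map_mul, map_mul]; exact e.eq)

omit hF in
/-- Transport along a permutation. -/
theorem Good.map {S T : Finset (Fin n)} (h : D.Good S) (τ : alternatingGroup (Fin n))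
    (hτ : ∀ x, x ∈ S ↔ (τ : Perm (Fin n)) x ∈ T) : D.Good T := by
  have hb : ∀ x ∈ T, ((τ⁻¹ : alternatingGroup (Fin n)) : Perm (Fin n)) x ∈ S := fun x hx => by
    rw [hτ, Subgroup.coe_inv, Perm.inv_def, Equiv.apply_symm_apply]; exact hx
  refine ⟨fun x hx e => ?_, fun g hg => ?_⟩
  · have h1 := D.conj_mem hb hx
    have := h.1 _ h1 (by simp [e])
    rw [mul_inv_eq_one, mul_eq_left] at this
    exact this
  · obtain ⟨x, hx, e⟩ := h.2 ((permSU τ)⁻¹ * g * permSU τ) fun j hj => by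
      rw [mul_smul, mul_smul, permSU_smul_eI, hg _ (fun h' => hj ((hτ j).2 h')), ← permSU_smul_eI, inv_smul_smul]
    exact ⟨_, D.conj_mem (fun y hy => (hτ y).1 hy) hx, by
      rw [map_mul, map_mul, map_inv, e, φ_π]; group⟩

theorem good_three : D.Good (I n 3) := by
  have h1 : In hn (1 : alternatingGroup (Fin n)) (I n 3) := fun i => mem_I.2 (by
    show (p3 hn i : ℕ) < 3
    simp [shift_val])
  refine ⟨fun x hx e => ?_, fun g hg => ?_⟩
  · have : D.HS (I n 3) ≤ (D.θ.comp tri).range := D.HS_le fun σ hσ Y => by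
      have hset : ∀ i, ∃ l, (σ : Perm (Fin n)) (p3 hn i) = ((1 : alternatingGroup (Fin n)) : Perm (Fin n)) (p3 hn l) :=
        fun i => ⟨⟨_, mem_I.1 (hσ i)⟩, Fin.ext (by simp [shift_val])⟩
      obtain ⟨Y', hY⟩ := D.ψ_set hset Y
      exact ⟨Y', by rw [hY, ψ_one]; rfl⟩
    obtain ⟨Y, rfl⟩ := this hx
    exact D.θ_inj e
  · obtain ⟨Y, rfl⟩ := emb_of_phi hF hg (p3 hn) fun x hx => ⟨⟨x, mem_I.1 hx⟩, Fin.ext (by simp [shift_val])⟩
    exact ⟨D.ψ 1 Y, D.ψ_mem h1 Y, by rw [φ_ψ]; rfl⟩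

theorem good_four : D.Good (I n 4) := by
  refine ⟨fun x hx e => ?_, fun g hg => ?_⟩
  · obtain ⟨Y, rfl⟩ := D.HS_four_le hF hx
    exact D.θ_inj e
  · obtain ⟨Y, rfl⟩ := emb_of_phi hF hg (p4 hn) fun x hx => ⟨⟨x, mem_I.1 hx⟩, Fin.ext (by simp [shift_val])⟩
    exact ⟨D.θ Y, D.θ_range_le hF ⟨Y, rfl⟩, by rw [φ_θ, bl_eq (show 0 + 4 ≤ n by omega)]⟩

omit hF in
/-- All sets of one size at once. -/
theorem good_of_card {k : ℕ} (h2 : 2 ≤ k) (h : D.Good (I n k)) (S : Finset (Fin n)) (hS : S.card = k) : D.Good S := by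
  have hk : k ≤ n := by simpa [hS] using Finset.card_le_univ S
  obtain ⟨g, hg⟩ := exists_emb_of_card S hS
  obtain ⟨τ, p, -, hτ⟩ := exists_even_swap (shift 0 (show 0 + k ≤ n by omega)) g
    (a := ⟨0, by omega⟩) (b := ⟨1, by omega⟩) (by simp [Fin.ext_iff])
  refine h.map D τ fun x => ⟨fun hx => ?_, fun hx => ?_⟩
  · rw [mem_I] at hx
    rw [show x = shift 0 (show 0 + k ≤ n by omega) ⟨x, hx⟩ from Fin.ext (by simp [shift_val]), hτ]
    exact (hg _).2 ⟨_, rfl⟩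
  · obtain ⟨i, hi⟩ := (hg _).1 hx
    obtain ⟨j, rfl⟩ := p.surjective i
    rw [← hτ] at hi
    rw [← (τ : Perm (Fin n)).injective hi, mem_I]
    simp [shift_val]

theorem good3 (S : Finset (Fin n)) (hS : S.card = 3) : D.Good S :=
  D.good_of_card (by norm_num) (D.good_three hF) S hS

theorem good4 (S : Finset (Fin n)) (hS : S.card = 4) : D.Good S :=
  D.good_of_card (by norm_num) (D.good_four hF) S hS

omit hF in
theorem φ_pair (σ : alternatingGroup (Fin n)) (X : SU 2 F q) :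
    D.φ (D.ψ σ (io X)) = emap ((shift 0 (show 0 + 2 ≤ n by omega)).trans ((σ : Perm (Fin n)).toEmbedding)) X := by
  rw [φ_ψ, io, bl_eq (show 0 + 2 ≤ 3 by norm_num), ← MonoidHom.comp_apply (emap _), emap_comp]
  congr 2
  ext i
  exact congrArg Fin.val (congrArg (σ : Perm (Fin n)) (Fin.ext (by simp [shift_val])))

omit hF in
theorem io_sw2 (X : SU 2 F q) :
    (permSU (Glue.beta (show 4 ≤ 4 from le_rfl)) * tri (io X) * (permSU (Glue.beta (show 4 ≤ 4 from le_rfl)))⁻¹ :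
      SU 4 F q) = tri (io (sw2 X)) := by
  rw [tri, bl_eq (show 0 + 3 ≤ 4 by norm_num), io, bl_eq (show 0 + 2 ≤ 3 by norm_num), ← MonoidHom.comp_apply (emap _),
    emap_comp, ← MonoidHom.comp_apply (emap _) (emap _), emap_comp, sw2, ← MonoidHom.comp_apply (emap _), emap_comp]
  exact permSU_conj _ (fun i => by revert i; decide) X

/-- A pair only depends on its two points. -/
theorem cent01 {τ : alternatingGroup (Fin n)} (h0 : (τ : Perm (Fin n)) (p3 hn 0) = p3 hn 0)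
    (h1 : (τ : Perm (Fin n)) (p3 hn 1) = p3 hn 1) (X : SU 2 F q) :
    D.π τ * D.θ (tri (io X)) * (D.π τ)⁻¹ = D.θ (tri (io X)) := by
  have ne : ∀ {a b : Fin 3}, a ≠ b → p3 hn a ≠ p3 hn b := fun h e => h ((p3 hn).injective e)
  suffices ∃ Z, D.π τ * D.θ (tri (io X)) * (D.π τ)⁻¹ = D.θ Z by
    obtain ⟨Z, hZ⟩ := this
    rw [hZ]
    refine D.θ_eq ?_
    rw [← hZ, ← D.ψ_apply, ← D.ψ_one, φ_pair, φ_pair]
    congr 2
    ext i
    fin_cases i
    · exact congrArg Fin.val h0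
    · exact congrArg Fin.val h1
  have inSt : ∀ {σ : alternatingGroup (Fin n)}, (σ : Perm (Fin n)) (p3 hn 2) = p3 hn 2 →
      ((σ : Perm (Fin n)) (p3 hn 0) = p3 hn 0 ∧ (σ : Perm (Fin n)) (p3 hn 1) = p3 hn 1 ∨
        (σ : Perm (Fin n)) (p3 hn 0) = p3 hn 1 ∧ (σ : Perm (Fin n)) (p3 hn 1) = p3 hn 0) → σ ∈ D.St := by
    intro σ h2 h
    refine D.mem_St fun i => ?_
    fin_cases i
    · rcases h with h | h <;> exact ⟨_, h.1⟩
    · rcases h with h | h <;> exact ⟨_, h.2⟩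
    · exact ⟨_, h2⟩
  set β := Glue.beta hn with hβ
  have b0 : (β : Perm (Fin n)) (p3 hn 0) = p3 hn 1 := beta_o0 hn
  have b1 : (β : Perm (Fin n)) (p3 hn 1) = p3 hn 0 := beta_o1 hn
  have b3 : (β : Perm (Fin n)) ⟨3, by omega⟩ = p3 hn 2 := by
    show swap (Glue.o0 hn) (Glue.o1 hn) (swap (Glue.o2 hn) (Glue.o3 hn) (Glue.o3 hn)) = _
    rw [swap_apply_right, swap_apply_of_ne_of_ne (by simp [Fin.ext_iff]) (by simp [Fin.ext_iff])]
    exact Fin.ext rfl
  have bb : β * β = 1 := by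
    apply Subtype.ext
    show (β : Perm (Fin n)) * (β : Perm (Fin n)) = 1
    ext x
    simp only [hβ, Glue.beta, Perm.mul_apply, Perm.one_apply]
    simp only [Equiv.swap_apply_def, Fin.ext_iff]
    split_ifs <;> simp_all [Fin.ext_iff]
  have hbθ : ∀ Z, D.π β * D.θ Z * (D.π β)⁻¹ =
      D.θ (permSU (Glue.beta (show 4 ≤ 4 from le_rfl)) * Z * (permSU (Glue.beta (show 4 ≤ 4 from le_rfl)))⁻¹) := fun Z => by
    rw [map_mul, map_mul, map_inv, D.compatB]
  -- the third point returns by the exchanges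
  rcases eq_or_ne ((τ : Perm (Fin n)) (p3 hn 2)) (p3 hn 2) with h2 | h2
  · obtain ⟨Y, hY⟩ := (inSt h2 (Or.inl ⟨h0, h1⟩)).1 (io X)
    exact ⟨_, hY⟩
  rcases eq_or_ne ((τ : Perm (Fin n)) (p3 hn 2)) ⟨3, by omega⟩ with h3 | h3
  · have hm : β * τ ∈ D.St := inSt (by rw [Subgroup.coe_mul, Perm.mul_apply, h3, b3])
      (Or.inr ⟨by rw [Subgroup.coe_mul, Perm.mul_apply, h0, b0], by rw [Subgroup.coe_mul, Perm.mul_apply, h1, b1]⟩)
    obtain ⟨Y, hY⟩ := hm.1 (io X)
    refine ⟨permSU (Glue.beta (show 4 ≤ 4 from le_rfl)) * tri Y * (permSU (Glue.beta (show 4 ≤ 4 from le_rfl)))⁻¹, ?_⟩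
    rw [show τ = β * (β * τ) by rw [← mul_assoc, bb, one_mul], map_mul,
      show ∀ a b c : H, a * b * c * (a * b)⁻¹ = a * (b * c * b⁻¹) * a⁻¹ from fun a b c => by group, hY, hbθ]
  set c := (τ : Perm (Fin n)) (p3 hn 2) with hc
  have hc0 : c ≠ p3 hn 0 := fun e => ne (by decide) ((τ : Perm (Fin n)).injective (e.trans h0.symm))
  have hc1 : c ≠ p3 hn 1 := fun e => ne (by decide) ((τ : Perm (Fin n)).injective (e.trans h1.symm))
  have n03 : ∀ i, p3 hn i ≠ (⟨3, by omega⟩ : Fin n) := fun i e => by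
    have := congrArg Fin.val e; simp [shift_val] at this; omega
  let σ : alternatingGroup (Fin n) := ⟨swap (p3 hn 0) (p3 hn 1) * swap ⟨3, by omega⟩ c, by
    rw [Perm.mem_alternatingGroup, map_mul, Perm.sign_swap (ne (by decide)), Perm.sign_swap (Ne.symm h3)]; rfl⟩
  have s0 : (σ : Perm (Fin n)) (p3 hn 0) = p3 hn 1 := by
    show swap _ _ (swap _ _ _) = _
    rw [swap_apply_of_ne_of_ne (a := (⟨3, by omega⟩ : Fin n)) (n03 0) (Ne.symm hc0), swap_apply_left]
  have s1 : (σ : Perm (Fin n)) (p3 hn 1) = p3 hn 0 := by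
    show swap _ _ (swap _ _ _) = _
    rw [swap_apply_of_ne_of_ne (a := (⟨3, by omega⟩ : Fin n)) (n03 1) (Ne.symm hc1), swap_apply_right]
  have s2 : (σ : Perm (Fin n)) (p3 hn 2) = p3 hn 2 := by
    show swap _ _ (swap _ _ _) = _
    rw [swap_apply_of_ne_of_ne (a := (⟨3, by omega⟩ : Fin n)) (n03 2) (Ne.symm h2),
      swap_apply_of_ne_of_ne (ne (by decide)) (ne (by decide))]
  have sc : (σ : Perm (Fin n)) c = ⟨3, by omega⟩ := by
    show swap _ _ (swap _ _ _) = _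
    rw [swap_apply_right, swap_apply_of_ne_of_ne (Ne.symm (n03 0)) (Ne.symm (n03 1))]
  have hσ : σ ∈ D.St := inSt s2 (Or.inr ⟨s0, s1⟩)
  have hm : β * (σ * τ) ∈ D.St := inSt
    (by rw [Subgroup.coe_mul, Perm.mul_apply, Subgroup.coe_mul, Perm.mul_apply, ← hc, sc, b3])
    (Or.inl ⟨by rw [Subgroup.coe_mul, Perm.mul_apply, Subgroup.coe_mul, Perm.mul_apply, h0, s0, b1],
      by rw [Subgroup.coe_mul, Perm.mul_apply, Subgroup.coe_mul, Perm.mul_apply, h1, s1, b0]⟩)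
  obtain ⟨Y1, hY1⟩ := hm.1 (io X)
  have e1 : D.θ (tri Y1) = D.θ (tri (io X)) := by
    refine D.θ_eq ?_
    rw [← hY1, ← D.ψ_apply, ← D.ψ_one, φ_pair, φ_pair]
    congr 2
    ext i
    fin_cases i
    · show ((β : Perm (Fin n)) ((σ : Perm (Fin n)) ((τ : Perm (Fin n)) (p3 hn 0)))).val = _
      rw [h0, s0, b1]
      rfl
    · show ((β : Perm (Fin n)) ((σ : Perm (Fin n)) ((τ : Perm (Fin n)) (p3 hn 1)))).val = _
      rw [h1, s1, b0]
      rfl
  obtain ⟨Y2, hY2⟩ := hσ.2 (io (sw2 X))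
  refine ⟨tri Y2, ?_⟩
  rw [show τ = σ⁻¹ * (β * (β * (σ * τ))) by rw [← mul_assoc β, bb, one_mul, inv_mul_cancel_left], map_mul, map_mul, map_inv,
    show ∀ a b c d : H, a⁻¹ * (b * c) * d * (a⁻¹ * (b * c))⁻¹ = a⁻¹ * (b * (c * d * c⁻¹) * b⁻¹) * a from
      fun a b c d => by group, hY1, e1, hbθ, io_sw2, hY2]

/-- The pair element, from any placement. -/
theorem pair_eq {σ σ' : alternatingGroup (Fin n)} (h0 : (σ : Perm (Fin n)) (p3 hn 0) = (σ' : Perm (Fin n)) (p3 hn 0))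
    (h1 : (σ : Perm (Fin n)) (p3 hn 1) = (σ' : Perm (Fin n)) (p3 hn 1)) (X : SU 2 F q) :
    D.ψ σ (io X) = D.ψ σ' (io X) := by
  have := D.cent01 hF (τ := σ'⁻¹ * σ) (by rw [Subgroup.coe_mul, Subgroup.coe_inv, Perm.mul_apply, h0, Perm.inv_eq_iff_eq])
    (by rw [Subgroup.coe_mul, Subgroup.coe_inv, Perm.mul_apply, h1, Perm.inv_eq_iff_eq]) X
  rw [ψ_apply, ψ_apply]
  conv_rhs => rw [← this]
  rw [map_mul, map_inv]; group

theorem pair_mem {σ : alternatingGroup (Fin n)} {S : Finset (Fin n)} (h3 : 3 ≤ S.card)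
    (h0 : (σ : Perm (Fin n)) (p3 hn 0) ∈ S) (h1 : (σ : Perm (Fin n)) (p3 hn 1) ∈ S) (X : SU 2 F q) :
    D.ψ σ (io X) ∈ D.HS S := by
  obtain ⟨c, hc⟩ : ∃ c, c ∈ S ∧ c ≠ (σ : Perm (Fin n)) (p3 hn 0) ∧ c ≠ (σ : Perm (Fin n)) (p3 hn 1) := by
    obtain ⟨c, hc, hn'⟩ := Finset.exists_mem_notMem_of_card_lt_card
      (s := ({(σ : Perm (Fin n)) (p3 hn 0), (σ : Perm (Fin n)) (p3 hn 1)} : Finset (Fin n))) (t := S)
      (lt_of_le_of_lt Finset.card_le_two (by omega))
    simp only [Finset.mem_insert, Finset.mem_singleton, not_or] at hn'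
    exact ⟨c, hc, hn'⟩
  obtain ⟨σ', hσ'⟩ := exists_even (k := 3) (by omega) (p3 hn)
    ⟨![(σ : Perm (Fin n)) (p3 hn 0), (σ : Perm (Fin n)) (p3 hn 1), c],
      Glue.inj3 (fun e => absurd ((p3 hn).injective ((σ : Perm (Fin n)).injective e)) (by decide))
        (Ne.symm hc.2.2) (Ne.symm hc.2.1)⟩
  rw [D.pair_eq hF (σ' := σ') (hσ' 0).symm (hσ' 1).symm]
  refine D.ψ_mem (fun i => ?_) _
  rw [hσ' i]
  fin_cases i
  exacts [h0, h1, hc.1]

theorem card_four {a b c d : Fin n} (h1 : a ≠ b) (h2 : a ≠ c) (h3 : a ≠ d) (h4 : b ≠ c) (h5 : b ≠ d) (h6 : c ≠ d) :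
    ({a, b, c, d} : Finset (Fin n)).card = 4 := by
  rw [Finset.card_insert_of_notMem (by simp [h1, h2, h3]), Finset.card_insert_of_notMem (by simp [h4, h5]),
    Finset.card_pair h6]

/-- Disjoint pairs commute. -/
theorem pair_pair {σ : alternatingGroup (Fin n)} (h : ∀ i : Fin 2, ∀ j : Fin 2,
    (σ : Perm (Fin n)) (shift 0 (show 0 + 2 ≤ n by omega) i) ≠ shift 0 (show 0 + 2 ≤ n by omega) j)
    (X Z : SU 2 F q) : Commute (D.θ (tri (io X))) (D.ψ σ (io Z)) := by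
  have e : ∀ i : Fin 2, shift 0 (show 0 + 2 ≤ n by omega) i = p3 hn (Fin.castSucc i) := fun i => Fin.ext rfl
  set S : Finset (Fin n) := {p3 hn 0, p3 hn 1, (σ : Perm (Fin n)) (p3 hn 0), (σ : Perm (Fin n)) (p3 hn 1)} with hS
  have hc : S.card = 4 := card_four hF (fun e => absurd ((p3 hn).injective e) (by decide))
    (fun e' => h 0 0 e'.symm) (fun e' => h 1 0 e'.symm) (fun e' => h 0 1 e'.symm) (fun e' => h 1 1 e'.symm)
    (fun e => absurd ((p3 hn).injective ((σ : Perm (Fin n)).injective e)) (by decide))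
  have hX : D.θ (tri (io X)) = D.ψ 1 (io X) := (D.ψ_one _).symm
  rw [hX]
  refine (D.good4 hF S hc).commute D (D.pair_mem hF (by omega) (by simp [hS]) (by simp [hS]) X)
    (D.pair_mem hF (by omega) (by simp [hS]) (by simp [hS]) Z) ?_
  rw [φ_pair, φ_pair]
  exact emap_commute _ _ (fun i j e' => h j i e'.symm) X Z

end G2

end Cfsg.Agent.KSG55.U6
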