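import Cfsg.Agent.KSG55.U6.TwoComm

/-!
A pair commutes with a triangle away from it, and disjoint triangles commute.
-/

set_option autoImplicit false
set_option linter.unusedSectionVars false

namespace Cfsg.Agent.KSG55.U6

open Equiv Cfsg.Agent.Unitary Cfsg.Agent.KSG55.Pres Cfsg.Agent.KSG55.Phan Cfsg.Agent.KSG55.SLn

universe u v

variable {F : Type u} [Field F] [Fintype F] {n q : ℕ}

theorem swap_conj_disjoint {α : Type*} [DecidableEq α] {a b c d : α} (h1 : c ≠ a) (h2 : c ≠ b) (h3 : d ≠ a)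
    (h4 : d ≠ b) (j : α) : swap a b (swap c d (swap a b j)) = swap c d j := by
  rcases eq_or_ne j a with rfl | hja
  · rw [swap_apply_left, swap_apply_of_ne_of_ne h2.symm h4.symm, swap_apply_right,
      swap_apply_of_ne_of_ne h1.symm h3.symm]
  rcases eq_or_ne j b with rfl | hjb
  · rw [swap_apply_right, swap_apply_of_ne_of_ne h1.symm h3.symm, swap_apply_left,
      swap_apply_of_ne_of_ne h2.symm h4.symm]
  rw [swap_apply_of_ne_of_ne hja hjb]
  rcases eq_or_ne j c with rfl | hjc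
  · rw [swap_apply_left, swap_apply_of_ne_of_ne h3 h4]
  rcases eq_or_ne j d with rfl | hjd
  · rw [swap_apply_right, swap_apply_of_ne_of_ne h1 h2]
  rw [swap_apply_of_ne_of_ne hjc hjd, swap_apply_of_ne_of_ne hja hjb]

theorem d2_mul {a b : F} (ha : a ^ (q + 1) = 1) (hb : b ^ (q + 1) = 1) (h : (a * b) ^ (q + 1) = 1) :
    (d2 a ha * d2 b hb : SU 2 F q) = d2 (a * b) h := eq_of_smul_eq_SU fun v => by
  rw [mul_smul, d2, d2, d2, dg_smul, dg_smul, dg_smul]
  funext i
  fin_cases i
  · show a * (b * v 0) = a * b * v 0; ring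
  · show a⁻¹ * (b⁻¹ * v 1) = (a * b)⁻¹ * v 1; rw [mul_inv]; ring

theorem d2_one : (d2 (1 : F) (one_pow _) : SU 2 F q) = 1 := eq_of_smul_eq_SU fun v => by
  rw [d2, dg_smul, one_smul]
  funext i; fin_cases i <;> simp

theorem d2_pow {a : F} (ha : a ^ (q + 1) = 1) (i : ℕ) :
    (d2 a ha : SU 2 F q) ^ i = d2 (a ^ i) (by rw [← pow_mul, mul_comm, pow_mul, ha, one_pow]) := by
  induction i with
  | zero => simp only [pow_zero]; exact (d2_one).symm
  | succ i ih => simp only [pow_succ]; rw [ih, d2_mul]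

namespace G2

variable {hn : 4 ≤ n} {hn5 : 5 ≤ n} {H : Type v} [Group H] (D : G2 F q hn hn5 H)

/-- The relations between separated blocks. -/
structure Far (ω : F) (hω : ω ^ (q + 1) = 1) (t : SU 3 F q) : Prop where
  gen : ∀ c : F, c ≠ 0 → ∃ i : ℕ, ω ^ i = c
  top : t • (eI 0 : Fin 3 → F) = fun _ => 1
  h5 : ∃ σ : alternatingGroup (Fin n), (∀ i, (σ : Perm (Fin n)) (p3 hn i) = shift 2 (show 2 + 3 ≤ n by omega) i) ∧
    Commute (D.θ (tri (io (d2 ω hω)))) (D.ψ σ t)
  h6 : ∀ h : 6 ≤ n, ∃ σ : alternatingGroup (Fin n),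
    (∀ i, (σ : Perm (Fin n)) (p3 hn i) = shift 3 (show 3 + 3 ≤ n by omega) i) ∧
      ∀ w hw, Commute (D.θ (tri t)) (D.ψ σ (tw0 w hw t))

theorem set_symm {σ σ' : alternatingGroup (Fin n)}
    (h : ∀ i, ∃ l, (σ : Perm (Fin n)) (p3 hn i) = (σ' : Perm (Fin n)) (p3 hn l)) (i : Fin 3) :
    ∃ l, (σ' : Perm (Fin n)) (p3 hn i) = (σ : Perm (Fin n)) (p3 hn l) := by
  choose g hg using h
  have hinj : Function.Injective g := fun a b e => (p3 hn).injective ((σ : Perm (Fin n)).injective (by rw [hg, hg, e]))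
  obtain ⟨l, rfl⟩ := Finite.injective_iff_surjective.1 hinj i
  exact ⟨l, (hg l).symm⟩

theorem exists_place (a b c : Fin n) (hab : a ≠ b) (hbc : b ≠ c) (hac : a ≠ c) (h5 : 5 ≤ n) :
    ∃ σ : alternatingGroup (Fin n), (σ : Perm (Fin n)) (p3 hn 0) = a ∧ (σ : Perm (Fin n)) (p3 hn 1) = b ∧
      (σ : Perm (Fin n)) (p3 hn 2) = c := by
  obtain ⟨σ, hσ⟩ := exists_even (k := 3) (by omega) (p3 hn) ⟨![a, b, c], Glue.inj3 hab hbc hac⟩
  exact ⟨σ, hσ 0, hσ 1, hσ 2⟩

theorem io_bl1 (σ : alternatingGroup (Fin n)) (X : SU 2 F q) :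
    D.ψ σ (bl 3 2 1 X) = D.ψ (σ * w0 hn) (io X) := by
  rw [G3.io_rot, map_mul, map_mul, map_inv, show D.ψ σ (permSU c3) = D.π σ * D.π (w0 hn) * (D.π σ)⁻¹ by
    rw [ψ_apply, D.compat3], ψ_apply, ψ_apply, map_mul]
  group

theorem dg_three (a b c : F) (hd : ∀ i, (![a, b, c] : Fin 3 → F) i ^ (q + 1) = 1)
    (hp : ∏ i, (![a, b, c] : Fin 3 → F) i = 1) :
    ∃ X Z : SU 2 F q, dg ![a, b, c] hd hp = io X * bl 3 2 1 Z := by
  have ha : a ^ (q + 1) = 1 := hd 0
  have hc : c ^ (q + 1) = 1 := hd 2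
  refine ⟨d2 a ha, d2 c⁻¹ (by rw [inv_pow, hc, inv_one]), eq_of_smul_eq_SU fun v => ?_⟩
  have hb : b = a⁻¹ * c⁻¹ := by
    rw [Fin.prod_univ_three] at hp
    simp at hp
    have := ne_zero_of_norm ha
    have := ne_zero_of_norm hc
    field_simp
    linear_combination hp
  have E0 : ∀ d : Fin 2 → F, Function.extend (shift 0 (show 0 + 2 ≤ 3 by norm_num)) d (1 : Fin 3 → F) = ![d 0, d 1, 1] := by
    intro d; funext j; fin_cases j
    · exact (shift 0 _).injective.extend_apply d 1 0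
    · exact (shift 0 _).injective.extend_apply d 1 1
    · exact Function.extend_apply' d _ _ (by decide)
  have E1 : ∀ d : Fin 2 → F, Function.extend (shift 1 (show 1 + 2 ≤ 3 by norm_num)) d (1 : Fin 3 → F) = ![1, d 0, d 1] := by
    intro d; funext j; fin_cases j
    · exact Function.extend_apply' d _ _ (by decide)
    · exact (shift 1 _).injective.extend_apply d 1 0
    · exact (shift 1 _).injective.extend_apply d 1 1
  rw [mul_smul, dg_smul, io, bl_eq (show 0 + 2 ≤ 3 by norm_num), bl_eq (show 1 + 2 ≤ 3 by norm_num), d2, d2,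
    diag_emap, diag_emap]
  funext j
  rw [E0, E1]
  fin_cases j <;> simp [hb, mul_assoc]

variable (hF : Fintype.card F = q ^ 2) (hq : q = 2)

include hF

/-- A diagonal element inside four points acts on a triangle there by a twist. -/
theorem conj_four {S : Finset (Fin n)} (hS : S.card = 4) {σe σ : alternatingGroup (Fin n)} (he : In hn σe S)
    (hσ : In hn σ S) {e : Fin 3 → F} (hde : ∀ i, e i ^ (q + 1) = 1) (hpe : ∏ i, e i = 1)
    {d : Fin 3 → F} (hd : ∀ i, d i ^ (q + 1) = 1)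
    (hcd : ∀ i, Function.extend ((p3 hn).trans ((σe : Perm (Fin n)).toEmbedding)) e 1 ((σ : Perm (Fin n)) (p3 hn i)) = d i)
    (Y : SU 3 F q) :
    D.ψ σe (dg e hde hpe) * D.ψ σ Y * (D.ψ σe (dg e hde hpe))⁻¹ = D.ψ σ (twist (RingEquiv.refl F) d hd Y) := by
  refine (D.good4 hF S hS).eq D (mul_mem (mul_mem (D.ψ_mem he _) (D.ψ_mem hσ _)) (inv_mem (D.ψ_mem he _)))
    (D.ψ_mem hσ _) ?_
  rw [map_mul, map_mul, map_inv, φ_ψ, φ_ψ, φ_ψ]
  exact conj_diag _ (diag_emap _ e hde hpe) hd hcd Y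

include hq

variable {ω : F} {hω : ω ^ (q + 1) = 1} {t : SU 3 F q} (R : D.Far ω hω t)

include R

set_option maxHeartbeats 1000000 in
/-- The base case. -/
theorem five_base {c5 : alternatingGroup (Fin n)}
    (hc : ∀ i, (c5 : Perm (Fin n)) (p3 hn i) = shift 2 (show 2 + 3 ≤ n by omega) i)
    (hrel : Commute (D.θ (tri (io (d2 ω hω)))) (D.ψ c5 t)) (X : SU 2 F q) (Y : SU 3 F q) :
    Commute (D.θ (tri (io X))) (D.ψ c5 Y) := by
  have e2 : ∀ i : Fin 2, shift 0 (show 0 + 2 ≤ n by omega) i = p3 hn (Fin.castSucc i) := fun i => Fin.ext rfl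
  -- the diagonal element
  have hD : ∀ Y, Commute (D.θ (tri (io (d2 ω hω)))) (D.ψ c5 Y) := by
    set Q : Subgroup (SU 3 F q) := (Subgroup.centralizer {D.θ (tri (io (d2 ω hω)))}).comap (D.ψ c5) with hQ
    have hQm : ∀ Y, Y ∈ Q ↔ Commute (D.θ (tri (io (d2 ω hω)))) (D.ψ c5 Y) := fun Y => by
      rw [hQ, Subgroup.mem_comap, Subgroup.mem_centralizer_singleton_iff]; exact ⟨Eq.symm, Eq.symm⟩
    have hpp : ∀ σ : alternatingGroup (Fin n), (∀ i : Fin 2, 2 ≤ ((σ : Perm (Fin n)) (p3 hn (Fin.castSucc i)) : ℕ)) →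
        ∀ Z, Commute (D.θ (tri (io (d2 ω hω)))) (D.ψ σ (io Z)) := fun σ hσ Z =>
      D.pair_pair hF (fun i j e => by
        have := hσ i
        rw [e2] at e
        rw [e, shift_val] at this; omega) _ Z
    have hio : ∀ Z, io Z ∈ Q := fun Z => (hQm _).2 (hpp c5 (fun i => by rw [hc, shift_val]; omega) Z)
    have hbl : ∀ Z, bl 3 2 1 Z ∈ Q := fun Z => (hQm _).2 (by
      rw [io_bl1]
      refine hpp _ (fun i => ?_) Z
      rw [Subgroup.coe_mul, Perm.mul_apply, w0_p3, hc, shift_val]; omega)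
    have := su3_two_top hF hq R.top Q (fun d hd hp => ?_) (hio _) (hbl _) fun w hw => ?_
    · exact fun Y => (hQm Y).1 ((Subgroup.eq_top_iff' _).mp this Y)
    · obtain ⟨a, b, c, rfl⟩ : ∃ a b c, d = ![a, b, c] := ⟨d 0, d 1, d 2, funext fun i => by fin_cases i <;> rfl⟩
      obtain ⟨Z, Z', e⟩ := dg_three a b c hd hp
      rw [e]; exact mul_mem (hio _) (hbl _)
    · rw [hQm]
      obtain ⟨σe, s0, s1, s2⟩ := exists_place (hn := hn) (p3 hn 0) ((c5 : Perm (Fin n)) (p3 hn 0))
        ((c5 : Perm (Fin n)) (p3 hn 1)) (by simp [hc, Fin.ext_iff, shift_val]) (by simp [hc, Fin.ext_iff, shift_val])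
        (by simp [hc, Fin.ext_iff, shift_val]) hn5
      have hde : ∀ i, (![w⁻¹, w, 1] : Fin 3 → F) i ^ (q + 1) = 1 := fun i => by fin_cases i <;> simp [hw]
      have hpe : ∏ i, (![w⁻¹, w, 1] : Fin 3 → F) i = 1 := by simp [Fin.prod_univ_three, ne_zero_of_norm hw]
      set E := D.ψ σe (dg ![w⁻¹, w, 1] hde hpe) with hE
      have hED : Commute E (D.θ (tri (io (d2 ω hω)))) := by
        set S : Finset (Fin n) := {p3 hn 0, p3 hn 1, (c5 : Perm (Fin n)) (p3 hn 0), (c5 : Perm (Fin n)) (p3 hn 1)}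
          with hS
        refine (D.good4 hF S ?_).commute D (D.ψ_mem (fun i => ?_) _) (by
          rw [← D.ψ_one]; exact D.pair_mem hF (by rw [card_four hF] <;> simp [hc, Fin.ext_iff, shift_val])
            (by simp [hS]) (by simp [hS]) _) ?_
        · exact card_four hF (by simp [Fin.ext_iff, shift_val]) (by simp [hc, Fin.ext_iff, shift_val])
            (by simp [hc, Fin.ext_iff, shift_val]) (by simp [hc, Fin.ext_iff, shift_val])
            (by simp [hc, Fin.ext_iff, shift_val]) (by simp [hc, Fin.ext_iff, shift_val])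
        · fin_cases i <;> simp [hS, s0, s1, s2]
        · rw [← D.ψ_one, hE, φ_ψ, φ_pair, d2]
          exact commute_diag (diag_emap _ _ hde hpe) (diag_emap _ _ _ _)
      have hEt : E * D.ψ c5 t * E⁻¹ = D.ψ c5 (tw0 w hw t) := by
        refine D.conj_four hF (S := {p3 hn 0, (c5 : Perm (Fin n)) (p3 hn 0), (c5 : Perm (Fin n)) (p3 hn 1),
          (c5 : Perm (Fin n)) (p3 hn 2)}) ?_ (fun i => ?_) (fun i => ?_) hde hpe _ (fun i => ?_) t
        · exact card_four hF (by simp [hc, Fin.ext_iff, shift_val]) (by simp [hc, Fin.ext_iff, shift_val])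
            (by simp [hc, Fin.ext_iff, shift_val]) (by simp [hc, Fin.ext_iff, shift_val])
            (by simp [hc, Fin.ext_iff, shift_val]) (by simp [hc, Fin.ext_iff, shift_val])
        · fin_cases i <;> simp [s0, s1, s2]
        · fin_cases i <;> simp
        · fin_cases i
          · exact (congrArg _ s1.symm).trans (Function.Injective.extend_apply (Function.Embedding.injective _) _ _ 1)
          · exact (congrArg _ s2.symm).trans (Function.Injective.extend_apply (Function.Embedding.injective _) _ _ 2)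
          · refine Function.extend_apply' _ _ _ ?_
            rintro ⟨l, hl⟩
            rw [Function.Embedding.trans_apply, Equiv.coe_toEmbedding] at hl
            fin_cases l
            · exact absurd (s0.symm.trans hl) (by simp [hc, Fin.ext_iff, shift_val])
            · exact absurd (s1.symm.trans hl) (by simp [hc, Fin.ext_iff, shift_val])
            · exact absurd (s2.symm.trans hl) (by simp [hc, Fin.ext_iff, shift_val])
      rw [← hEt]
      have := (Commute.conj_iff E).mpr hrel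
      rwa [hED.eq, mul_inv_cancel_right] at this
  obtain ⟨c, hcn, rfl | rfl⟩ := su2_two hF hq X
  all_goals obtain ⟨i, rfl⟩ := R.gen c (ne_zero_of_norm hcn)
  · rw [← d2_pow hω, map_pow, map_pow, map_pow]; exact (hD Y).pow_left i
  · rw [← d2_pow hω, map_mul, map_mul, map_mul, map_pow, map_pow, map_pow]
    refine Commute.mul_left ?_ ((hD Y).pow_left i)
    -- the exchange
    set x3 : Fin n := ⟨3, by omega⟩ with hx3
    set x4 : Fin n := ⟨4, by omega⟩ with hx4
    let τ : alternatingGroup (Fin n) := ⟨swap (p3 hn 0) (p3 hn 1) * swap x3 x4, by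
      rw [Perm.mem_alternatingGroup, map_mul, Perm.sign_swap (by simp [Fin.ext_iff, shift_val]),
        Perm.sign_swap (by simp [hx3, hx4, Fin.ext_iff])]; rfl⟩
    let τ' : alternatingGroup (Fin n) := ⟨swap (p3 hn 0) x3 * swap (p3 hn 1) x4, by
      rw [Perm.mem_alternatingGroup, map_mul, Perm.sign_swap (by simp [hx3, Fin.ext_iff, shift_val]),
        Perm.sign_swap (by simp [hx4, Fin.ext_iff, shift_val])]; rfl⟩
    have τa : ∀ x, (τ : Perm (Fin n)) x = swap (p3 hn 0) (p3 hn 1) (swap x3 x4 x) := fun x => rfl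
    have τb : ∀ x, (τ' : Perm (Fin n)) x = swap (p3 hn 0) x3 (swap (p3 hn 1) x4 x) := fun x => rfl
    obtain ⟨σ34, u0, u1, -⟩ := exists_place (hn := hn) x3 x4 (p3 hn 2) (by simp [hx3, hx4, Fin.ext_iff])
      (by simp [hx4, Fin.ext_iff, shift_val]) (by simp [hx3, Fin.ext_iff, shift_val]) hn5
    set S : Finset (Fin n) := {p3 hn 0, p3 hn 1, x3, x4} with hS
    have hS4 : S.card = 4 := card_four hF (by simp [Fin.ext_iff, shift_val]) (by simp [hx3, Fin.ext_iff, shift_val])
      (by simp [hx4, Fin.ext_iff, shift_val]) (by simp [hx3, Fin.ext_iff, shift_val])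
      (by simp [hx4, Fin.ext_iff, shift_val]) (by simp [hx3, hx4, Fin.ext_iff])
    have hy : D.π τ * D.θ (tri (io (W hF))) = D.ψ σ34 (io (W hF)) := by
      refine (D.good4 hF S hS4).eq D (mul_mem (D.π_mem (by omega) ⟨Perm.mem_alternatingGroup.mp τ.2, fun x hx => ?_⟩) ?_)
        (D.pair_mem hF (by omega) (by simp [hS, u0]) (by simp [hS, u1]) _) ?_
      · simp only [hS, Finset.mem_insert, Finset.mem_singleton, not_or] at hx
        show swap _ _ (swap _ _ x) = x
        rw [swap_apply_of_ne_of_ne (a := x3) hx.2.2.1 hx.2.2.2, swap_apply_of_ne_of_ne hx.1 hx.2.1]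
      · rw [← D.ψ_one]; exact D.pair_mem hF (by omega) (by simp [hS]) (by simp [hS]) _
      · rw [map_mul, φ_π, ← D.ψ_one, φ_pair, φ_pair]
        refine ext_eI fun j => ?_
        rw [mul_smul, pair_smul hF hq, pair_smul hF hq, permSU_smul_eI]
        congr 1
        simp only [Function.Embedding.trans_apply, Equiv.coe_toEmbedding, e2, Fin.castSucc_zero]
        rw [show (Fin.castSucc (1 : Fin 2) : Fin 3) = 1 from rfl, u0, u1]
        show swap (p3 hn 0) (p3 hn 1) (swap x3 x4 (swap (p3 hn 0) (p3 hn 1) j)) = _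
        refine swap_conj_disjoint ?_ ?_ ?_ ?_ j <;> simp [hx3, hx4, Fin.ext_iff, shift_val]
    have hyc : ∀ Z, Commute (D.ψ σ34 (io (W hF))) (D.θ (tri Z)) := fun Z => by
      have hmem : τ ∈ D.St := D.mem_St fun i => by
        fin_cases i
        · exact ⟨1, by rw [τa,swap_apply_of_ne_of_ne (a := x3) (by simp [hx3, Fin.ext_iff, shift_val])
                         (by simp [hx4, Fin.ext_iff, shift_val])]
                       exact swap_apply_left _ _⟩
        · exact ⟨0, by rw [τa,swap_apply_of_ne_of_ne (a := x3) (by simp [hx3, Fin.ext_iff, shift_val])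
                         (by simp [hx4, Fin.ext_iff, shift_val])]
                       exact swap_apply_right _ _⟩
        · exact ⟨2, by rw [τa,swap_apply_of_ne_of_ne (a := x3) (by simp [hx3, Fin.ext_iff, shift_val])
                         (by simp [hx4, Fin.ext_iff, shift_val]),
                         swap_apply_of_ne_of_ne (by simp [Fin.ext_iff, shift_val]) (by simp [Fin.ext_iff, shift_val])]
                       rfl⟩
      obtain ⟨Z', hZ'⟩ := hmem.1 (io (W hF) * Z * (io (W hF))⁻¹)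
      have hc' : D.ψ σ34 (io (W hF)) * D.θ (tri Z) * (D.ψ σ34 (io (W hF)))⁻¹ = D.θ (tri Z') := by
        rw [← hy, ← hZ', map_mul, map_mul, map_inv, map_mul, map_mul, map_inv]; group
      refine mul_inv_eq_iff_eq_mul.mp (hc'.trans (D.θ_eq ?_))
      rw [← hc', map_mul, map_mul, map_inv, φ_pair, ← D.ψ_one, φ_ψ]
      refine mul_inv_eq_iff_eq_mul.mpr (emap_commute _ _ (fun i j e => ?_) _ _).eq
      have e' : (σ34 : Perm (Fin n)) (p3 hn (Fin.castSucc i)) = p3 hn j := by rw [← e2]; exact e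
      fin_cases i
      · have := congrArg Fin.val (u0.symm.trans e'); simp [hx3, shift_val] at this; omega
      · have := congrArg Fin.val (u1.symm.trans e'); simp [hx4, shift_val] at this; omega
    have t0 : (τ' : Perm (Fin n)) x3 = p3 hn 0 := by
      rw [τb,swap_apply_of_ne_of_ne (a := p3 hn 1) (by simp [hx3, Fin.ext_iff, shift_val]) (by simp [hx3, hx4, Fin.ext_iff]),
        swap_apply_right]
    have t1 : (τ' : Perm (Fin n)) x4 = p3 hn 1 := by
      rw [τb,swap_apply_right, swap_apply_of_ne_of_ne (by simp [Fin.ext_iff, shift_val]) (by simp [hx3, Fin.ext_iff, shift_val])]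
    obtain ⟨Y', hY'⟩ := D.ψ_set (σ := c5) (σ' := τ') (fun i => by
      fin_cases i
      · refine ⟨2, ?_⟩
        rw [hc, τb,swap_apply_of_ne_of_ne (a := p3 hn 1) (by simp [Fin.ext_iff, shift_val]) (by simp [hx4, Fin.ext_iff, shift_val]),
          swap_apply_of_ne_of_ne (by simp [Fin.ext_iff, shift_val]) (by simp [hx3, Fin.ext_iff, shift_val])]
        exact Fin.ext rfl
      · refine ⟨0, ?_⟩
        rw [hc, τb,swap_apply_of_ne_of_ne (a := p3 hn 1) (by simp [Fin.ext_iff, shift_val]) (by simp [hx4, Fin.ext_iff, shift_val]),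
          swap_apply_left]
        exact Fin.ext rfl
      · refine ⟨1, ?_⟩
        rw [hc, τb,swap_apply_left, swap_apply_of_ne_of_ne (by simp [hx4, Fin.ext_iff, shift_val]) (by simp [hx3, hx4, Fin.ext_iff])]
        exact Fin.ext rfl) Y
    rw [hY', ψ_apply, ← D.ψ_one, ← D.pair_eq hF (σ := τ' * σ34) (σ' := 1) (by
      rw [Subgroup.coe_mul, Perm.mul_apply, u0, t0]; rfl) (by rw [Subgroup.coe_mul, Perm.mul_apply, u1, t1]; rfl) (W hF),
      ← ψ_conj]
    exact (Commute.conj_iff _).mpr (hyc Y')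

/-- A pair commutes with a triangle avoiding it. -/
theorem comm_five {σ : alternatingGroup (Fin n)}
    (h : ∀ i, (σ : Perm (Fin n)) (p3 hn i) ≠ p3 hn 0 ∧ (σ : Perm (Fin n)) (p3 hn i) ≠ p3 hn 1)
    (X : SU 2 F q) (Y : SU 3 F q) : Commute (D.θ (tri (io X))) (D.ψ σ Y) := by
  obtain ⟨c5, hc, hrel⟩ := R.h5
  have hσi : ∀ i j, i ≠ j → (σ : Perm (Fin n)) (p3 hn i) ≠ (σ : Perm (Fin n)) (p3 hn j) := fun i j hij e =>
    hij ((p3 hn).injective ((σ : Perm (Fin n)).injective e))
  let g : Fin 5 ↪ Fin n := ⟨![p3 hn 0, p3 hn 1, (σ : Perm (Fin n)) (p3 hn 0), (σ : Perm (Fin n)) (p3 hn 1),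
    (σ : Perm (Fin n)) (p3 hn 2)], fun i j e => by
      fin_cases i <;> fin_cases j <;> first
        | rfl
        | exact absurd e (h _).1.symm
        | exact absurd e (h _).2.symm
        | exact absurd e (h _).1
        | exact absurd e (h _).2
        | exact absurd e (hσi _ _ (by decide))
        | exact absurd ((p3 hn).injective e) (by decide)⟩
  obtain ⟨τ, p, hp, hτ⟩ := exists_even_swap (shift 0 (show 0 + 5 ≤ n by omega)) g (a := 2) (b := 3) (by decide)
  have t0 : (τ : Perm (Fin n)) (p3 hn 0) = p3 hn 0 := by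
    rw [show p3 hn 0 = shift 0 (show 0 + 5 ≤ n by omega) 0 from Fin.ext rfl, hτ, hp 0 (by decide) (by decide)]
    exact Fin.ext rfl
  have t1 : (τ : Perm (Fin n)) (p3 hn 1) = p3 hn 1 := by
    rw [show p3 hn 1 = shift 0 (show 0 + 5 ≤ n by omega) 1 from Fin.ext rfl, hτ, hp 1 (by decide) (by decide)]
    exact Fin.ext rfl
  have hset : ∀ l, ∃ i, ((τ * c5 : alternatingGroup (Fin n)) : Perm (Fin n)) (p3 hn l) = (σ : Perm (Fin n)) (p3 hn i) := by
    intro l
    rw [Subgroup.coe_mul, Perm.mul_apply, hc, show shift 2 (show 2 + 3 ≤ n by omega) l =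
      shift 0 (show 0 + 5 ≤ n by omega) ⟨2 + l, by omega⟩ from Fin.ext (by simp [shift_val]), hτ]
    have h0 : p ⟨2 + l, by omega⟩ ≠ 0 := fun e => by
      have := congrArg Fin.val (p.injective (e.trans (hp 0 (by decide) (by decide)).symm)); simp at this
    have h1 : p ⟨2 + l, by omega⟩ ≠ 1 := fun e => by
      have := congrArg Fin.val (p.injective (e.trans (hp 1 (by decide) (by decide)).symm)); simp at this; omega
    generalize p ⟨2 + l, by omega⟩ = y at h0 h1
    fin_cases y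
    · exact absurd rfl h0
    · exact absurd rfl h1
    exacts [⟨0, rfl⟩, ⟨1, rfl⟩, ⟨2, rfl⟩]
  obtain ⟨Y', hY'⟩ := D.ψ_set (σ := σ) (σ' := τ * c5) (set_symm hset) Y
  rw [hY', ← ψ_conj, ← D.cent01 hF t0 t1 X]
  exact (Commute.conj_iff _).mpr (D.five_base hF hq R hc hrel X Y')

/-- A placed pair commutes with a triangle avoiding it. -/
theorem comm_pair {σ σ' : alternatingGroup (Fin n)}
    (h : ∀ i, (σ' : Perm (Fin n)) (p3 hn i) ≠ (σ : Perm (Fin n)) (p3 hn 0) ∧
      (σ' : Perm (Fin n)) (p3 hn i) ≠ (σ : Perm (Fin n)) (p3 hn 1)) (X : SU 2 F q) (Y : SU 3 F q) :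
    Commute (D.ψ σ (io X)) (D.ψ σ' Y) := by
  have := (Commute.conj_iff (D.π σ)).mpr (D.comm_five hF hq R (σ := σ⁻¹ * σ') (fun i => by
    rw [Subgroup.coe_mul, Subgroup.coe_inv, Perm.mul_apply, Ne, Ne, Perm.inv_eq_iff_eq, Perm.inv_eq_iff_eq]
    exact h i) X Y)
  rwa [ψ_conj, mul_inv_cancel_left] at this

set_option maxHeartbeats 1000000 in
/-- Disjoint triangles commute. -/
theorem comm_six {σ : alternatingGroup (Fin n)} (h : ∀ i j, (σ : Perm (Fin n)) (p3 hn i) ≠ p3 hn j)
    (X Y : SU 3 F q) : Commute (D.θ (tri X)) (D.ψ σ Y) := by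
  have hσi : ∀ i j, i ≠ j → (σ : Perm (Fin n)) (p3 hn i) ≠ (σ : Perm (Fin n)) (p3 hn j) := fun i j hij e =>
    hij ((p3 hn).injective ((σ : Perm (Fin n)).injective e))
  have hg : Function.Injective (![p3 hn 0, p3 hn 1, p3 hn 2, (σ : Perm (Fin n)) (p3 hn 0),
      (σ : Perm (Fin n)) (p3 hn 1), (σ : Perm (Fin n)) (p3 hn 2)] : Fin 6 → Fin n) := fun i j e => by
    fin_cases i <;> fin_cases j <;> first
      | rfl
      | exact absurd e (h _ _)
      | exact absurd e (h _ _).symm
      | exact absurd e (hσi _ _ (by decide))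
      | exact absurd ((p3 hn).injective e) (by decide)
  have hn6 : 6 ≤ n := by simpa using Fintype.card_le_of_injective _ hg
  obtain ⟨c6, hc, hrel⟩ := R.h6 hn6
  have hfix : ∀ (τ : alternatingGroup (Fin n)) i, (τ : Perm (Fin n)) (p3 hn i) = p3 hn i →
      (i : ℕ) = ((τ : Perm (Fin n)) (p3 hn i) : ℕ) := fun τ i e => by rw [e, shift_val]; simp
  have cdg : ∀ (Q : Subgroup (SU 3 F q)), (∀ Z, io Z ∈ Q) → (∀ Z, bl 3 2 1 Z ∈ Q) → ∀ d hd hp, dg d hd hp ∈ Q := by
    intro Q hio hbl d hd hp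
    obtain ⟨a, b, c, rfl⟩ : ∃ a b c, d = ![a, b, c] := ⟨d 0, d 1, d 2, funext fun i => by fin_cases i <;> rfl⟩
    obtain ⟨Z, Z', e⟩ := dg_three a b c hd hp
    rw [e]; exact mul_mem (hio _) (hbl _)
  -- the base element
  have ht : ∀ Y, Commute (D.θ (tri t)) (D.ψ c6 Y) := by
    set Q : Subgroup (SU 3 F q) := (Subgroup.centralizer {D.θ (tri t)}).comap (D.ψ c6) with hQ
    have hQm : ∀ Y, Y ∈ Q ↔ Commute (D.θ (tri t)) (D.ψ c6 Y) := fun Y => by
      rw [hQ, Subgroup.mem_comap, Subgroup.mem_centralizer_singleton_iff]; exact ⟨Eq.symm, Eq.symm⟩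
    have hpt : ∀ σ' : alternatingGroup (Fin n), (∀ i : Fin 3, i ≠ 2 → 3 ≤ ((σ' : Perm (Fin n)) (p3 hn i) : ℕ)) →
        ∀ Z, Commute (D.θ (tri t)) (D.ψ σ' (io Z)) := fun σ' hσ' Z => by
      refine Commute.symm ?_
      rw [← D.ψ_one t]
      refine D.comm_pair hF hq R (fun i => ⟨fun e => ?_, fun e => ?_⟩) Z t
      · have := hσ' 0 (by decide); rw [← e, ← hfix 1 i rfl] at this; omega
      · have := hσ' 1 (by decide); rw [← e, ← hfix 1 i rfl] at this; omega
    have hio : ∀ Z, io Z ∈ Q := fun Z => (hQm _).2 (hpt c6 (fun i _ => by rw [hc, shift_val]; omega) Z)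
    have hbl : ∀ Z, bl 3 2 1 Z ∈ Q := fun Z => (hQm _).2 (by
      rw [io_bl1]
      refine hpt _ (fun i _ => ?_) Z
      rw [Subgroup.coe_mul, Perm.mul_apply, w0_p3, hc, shift_val]; omega)
    have := su3_two_top hF hq R.top Q (cdg Q hio hbl) (hio _) (hbl _) fun w hw => (hQm _).2 (hrel w hw)
    exact fun Y => (hQm Y).1 ((Subgroup.eq_top_iff' _).mp this Y)
  set N : Subgroup (SU 3 F q) :=
    (Subgroup.centralizer ((D.ψ c6).range : Set H)).comap (D.θ.comp tri) with hN
  have hNm : ∀ X, X ∈ N ↔ ∀ Y, Commute (D.θ (tri X)) (D.ψ c6 Y) := fun X => by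
    rw [hN, Subgroup.mem_comap, Subgroup.mem_centralizer_iff]
    exact ⟨fun h Y => (h _ ⟨Y, rfl⟩).symm, fun h y ⟨Y, e⟩ => e ▸ (h Y).eq.symm⟩
  have hio : ∀ Z, io Z ∈ N := fun Z => (hNm _).2 fun Y => D.comm_five hF hq R (fun i => by
    rw [hc, Ne, Ne, Fin.ext_iff, Fin.ext_iff, shift_val, shift_val, shift_val]
    constructor <;> simp; omega) Z Y
  have hbl : ∀ Z, bl 3 2 1 Z ∈ N := fun Z => (hNm _).2 fun Y => by
    rw [← D.ψ_one, io_bl1, one_mul]
    refine D.comm_pair hF hq R (fun i => ?_) Z Y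
    rw [hc, w0_p3, w0_p3]; constructor <;> simp [Fin.ext_iff, shift_val] <;> omega
  have htop : N = ⊤ := su3_two_top hF hq R.top N (cdg N hio hbl) (hio _) (hbl _) fun w hw => (hNm _).2 fun Y => by
    set x3 : Fin n := ⟨3, by omega⟩ with hx3
    set x4 : Fin n := ⟨4, by omega⟩ with hx4
    obtain ⟨σe, s0, s1, s2⟩ := exists_place (hn := hn) (p3 hn 0) x3 (p3 hn 1) (by simp [hx3, Fin.ext_iff, shift_val])
      (by simp [hx3, Fin.ext_iff, shift_val]) (by simp [Fin.ext_iff, shift_val]) hn5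
    obtain ⟨σf, f0, f1, f2⟩ := exists_place (hn := hn) (p3 hn 0) x3 x4 (by simp [hx3, Fin.ext_iff, shift_val])
      (by simp [hx3, hx4, Fin.ext_iff]) (by simp [hx4, Fin.ext_iff, shift_val]) hn5
    have hde : ∀ i, (![w, w⁻¹, 1] : Fin 3 → F) i ^ (q + 1) = 1 := fun i => by fin_cases i <;> simp [hw]
    have hpe : ∏ i, (![w, w⁻¹, 1] : Fin 3 → F) i = 1 := by simp [Fin.prod_univ_three, ne_zero_of_norm hw]
    set E := D.ψ σe (dg ![w, w⁻¹, 1] hde hpe) with hE
    have hEt : E * D.θ (tri t) * E⁻¹ = D.θ (tri (tw0 w hw t)) := by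
      rw [← D.ψ_one, ← D.ψ_one]
      refine D.conj_four hF (S := {p3 hn 0, p3 hn 1, p3 hn 2, x3}) ?_ (fun i => ?_) (fun i => ?_) hde hpe _ (fun i => ?_) t
      · exact card_four hF (by simp [Fin.ext_iff, shift_val]) (by simp [Fin.ext_iff, shift_val])
          (by simp [hx3, Fin.ext_iff, shift_val]) (by simp [Fin.ext_iff, shift_val])
          (by simp [hx3, Fin.ext_iff, shift_val]) (by simp [hx3, Fin.ext_iff, shift_val])
      · fin_cases i <;> simp [s0, s1, s2]
      · fin_cases i <;> simp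
      · fin_cases i
        · exact (congrArg _ s0.symm).trans (Function.Injective.extend_apply (Function.Embedding.injective _) _ _ 0)
        · exact (congrArg _ s2.symm).trans (Function.Injective.extend_apply (Function.Embedding.injective _) _ _ 2)
        · refine Function.extend_apply' _ _ _ ?_
          rintro ⟨l, hl⟩
          rw [Function.Embedding.trans_apply, Equiv.coe_toEmbedding] at hl
          fin_cases l
          · exact absurd (s0.symm.trans hl) (by simp [Fin.ext_iff, shift_val])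
          · exact absurd (s1.symm.trans hl) (by simp [hx3, Fin.ext_iff, shift_val])
          · exact absurd (s2.symm.trans hl) (by simp [Fin.ext_iff, shift_val])
    have hEf : E = D.ψ σf (dg ![w, w⁻¹, 1] hde hpe) := by
      set S : Finset (Fin n) := {p3 hn 0, p3 hn 1, x3, x4} with hS
      refine (D.good4 hF S ?_).eq D (D.ψ_mem (fun i => ?_) _) (D.ψ_mem (fun i => ?_) _) ?_
      · exact card_four hF (by simp [Fin.ext_iff, shift_val]) (by simp [hx3, Fin.ext_iff, shift_val])
          (by simp [hx4, Fin.ext_iff, shift_val]) (by simp [hx3, Fin.ext_iff, shift_val])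
          (by simp [hx4, Fin.ext_iff, shift_val]) (by simp [hx3, hx4, Fin.ext_iff])
      · fin_cases i <;> simp [hS, s0, s1, s2]
      · fin_cases i <;> simp [hS, f0, f1, f2]
      · rw [hE, φ_ψ, φ_ψ]
        refine eq_of_smul_eq_SU fun v => ?_
        rw [diag_emap, diag_emap]
        funext j
        congr 1
        have val : ∀ (σ' : alternatingGroup (Fin n)) (e : Fin 3 → F), (σ' : Perm (Fin n)) (p3 hn 0) = p3 hn 0 →
            (σ' : Perm (Fin n)) (p3 hn 1) = x3 → e 2 = 1 →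
            Function.extend ((p3 hn).trans ((σ' : Perm (Fin n)).toEmbedding)) e 1 j =
              if j = p3 hn 0 then e 0 else if j = x3 then e 1 else 1 := fun σ' e a b c => by
          by_cases hj : ∃ i, ((p3 hn).trans ((σ' : Perm (Fin n)).toEmbedding)) i = j
          · obtain ⟨i, rfl⟩ := hj
            rw [Function.Injective.extend_apply (Function.Embedding.injective _)]
            simp only [Function.Embedding.trans_apply, Equiv.coe_toEmbedding]
            fin_cases i
            · simp [a]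
            · simp [b, hx3, Fin.ext_iff, shift_val]
            · have n0 : (σ' : Perm (Fin n)) (p3 hn 2) ≠ p3 hn 0 := fun e' => absurd
                ((p3 hn).injective ((σ' : Perm (Fin n)).injective (e'.trans a.symm))) (by decide)
              have n1 : (σ' : Perm (Fin n)) (p3 hn 2) ≠ x3 := fun e' => absurd
                ((p3 hn).injective ((σ' : Perm (Fin n)).injective (e'.trans b.symm))) (by decide)
              simp [n0, n1, c]
          · rw [Function.extend_apply' _ _ _ hj]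
            push Not at hj
            rw [if_neg fun e' => hj 0 (by simp [a, e']), if_neg fun e' => hj 1 (by simp [b, e'])]
            rfl
        rw [val σe _ s0 s1 rfl, val σf _ f0 f1 rfl]
    set G := D.ψ σf (dg ![w, w⁻¹, 1] hde hpe) with hG
    set S : Finset (Fin n) := {p3 hn 0, x3, x4, (c6 : Perm (Fin n)) (p3 hn 2)} with hS
    have hGS : G ∈ D.HS S := D.ψ_mem (fun i => by fin_cases i <;> simp [hS, f0, f1, f2]) _
    have hYS : ∀ Y, D.ψ c6 Y ∈ D.HS S := fun Y => D.ψ_mem (fun i => by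
      fin_cases i
      · simp only [hS, hc]; simp [hx3, Fin.ext_iff, shift_val]
      · simp only [hS, hc]; simp [hx4, Fin.ext_iff, shift_val]
      · simp [hS]) _
    obtain ⟨Y0, hY0⟩ := emb_of_phi hF (S := Finset.univ.map ((p3 hn).trans ((c6 : Perm (Fin n)).toEmbedding)))
      (g := D.φ (G⁻¹ * D.ψ c6 Y * G)) (fun j hj => by
        rw [map_mul, map_mul, map_inv, hG, φ_ψ, φ_ψ, mul_smul, mul_smul, inv_smul_eq_iff, diag_emap]
        set c := Function.extend ((p3 hn).trans ((σf : Perm (Fin n)).toEmbedding)) (![w, w⁻¹, 1] : Fin 3 → F) 1 with hcdef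
        rw [show (fun l => c l * (eI j : Fin n → F) l) = c j • eI j from funext fun l => by
          by_cases hl : l = j
          · subst hl; rfl
          · simp [eI, hl], lineSmul, emap_fix _ _ fun l e => hj (Finset.mem_map.2 ⟨l, Finset.mem_univ _, e⟩)])
      ((p3 hn).trans ((c6 : Perm (Fin n)).toEmbedding)) fun x hx => by
        obtain ⟨i, -, e⟩ := Finset.mem_map.1 hx; exact ⟨i, e⟩
    have hS4 : S.card = 4 := card_four hF (by simp [hx3, Fin.ext_iff, shift_val])
      (by simp [hx4, Fin.ext_iff, shift_val]) (by simp [hc, Fin.ext_iff, shift_val])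
      (by simp [hx3, hx4, Fin.ext_iff]) (by simp [hc, hx3, Fin.ext_iff, shift_val])
      (by simp [hc, hx4, Fin.ext_iff, shift_val])
    have key : G⁻¹ * D.ψ c6 Y * G = D.ψ c6 Y0 := (D.good4 hF S hS4).eq D (mul_mem (mul_mem (inv_mem hGS) (hYS Y)) hGS) (hYS Y0)
      (by rw [φ_ψ, hY0])
    have := (Commute.conj_iff G).mpr (ht Y0)
    rwa [← key, ← hEf, hEt, show E * (E⁻¹ * D.ψ c6 Y * E) * E⁻¹ = D.ψ c6 Y by group] at this
  obtain ⟨τ, p, hp, hτ⟩ := exists_even_swap (shift 0 (show 0 + 6 ≤ n by omega)) ⟨_, hg⟩ (a := 3) (b := 4) (by decide)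
  have t3 : ∀ i, (τ : Perm (Fin n)) (p3 hn i) = p3 hn i := fun i => by
    rw [show p3 hn i = shift 0 (show 0 + 6 ≤ n by omega) ⟨i, by omega⟩ from Fin.ext rfl, hτ,
      hp _ (by rw [Ne, Fin.ext_iff]; simp; omega) (by rw [Ne, Fin.ext_iff]; simp; omega)]
    fin_cases i <;> exact Fin.ext rfl
  have hset : ∀ l, ∃ i, ((τ * c6 : alternatingGroup (Fin n)) : Perm (Fin n)) (p3 hn l) = (σ : Perm (Fin n)) (p3 hn i) := by
    intro l
    rw [Subgroup.coe_mul, Perm.mul_apply, hc, show shift 3 (show 3 + 3 ≤ n by omega) l =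
      shift 0 (show 0 + 6 ≤ n by omega) ⟨3 + l, by omega⟩ from Fin.ext (by simp [shift_val]), hτ]
    have hne : ∀ i : Fin 6, (i : ℕ) < 3 → p ⟨3 + l, by omega⟩ ≠ i := fun i hi e => by
      have := congrArg Fin.val (p.injective (e.trans (hp i (by rw [Ne, Fin.ext_iff]; simp; omega)
        (by rw [Ne, Fin.ext_iff]; simp; omega)).symm))
      simp at this; omega
    generalize p ⟨3 + l, by omega⟩ = y at hne
    fin_cases y
    · exact absurd rfl (hne 0 (by decide))
    · exact absurd rfl (hne 1 (by decide))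
    · exact absurd rfl (hne 2 (by decide))
    exacts [⟨0, rfl⟩, ⟨1, rfl⟩, ⟨2, rfl⟩]
  obtain ⟨Y', hY'⟩ := D.ψ_set (σ := σ) (σ' := τ * c6) (set_symm hset) Y
  have hc0 := (hNm X).1 ((Subgroup.eq_top_iff' _).mp htop X) Y'
  have := (Commute.conj_iff (D.π τ)).mpr hc0
  rwa [(D.cent τ t3 X).eq, mul_inv_cancel_right, ψ_conj, ← hY'] at this

end G2

end Cfsg.Agent.KSG55.U6
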