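import Cfsg.Agent.KSG55.U6.Three
import Cfsg.Agent.KSG55.U6.GenTwo

/-!
The group glued from `SU₄(2)` and the alternating group: placements of the triangles and their sets.
-/

set_option autoImplicit false
set_option linter.unusedSectionVars false

namespace Cfsg.Agent.KSG55.U6

open Equiv Cfsg.Agent.Unitary Cfsg.Agent.KSG55.Pres Cfsg.Agent.KSG55.Phan Cfsg.Agent.KSG55.SLn
open Cfsg.Agent.KSG55.SUStep (exists_fixS_one)

universe u v

variable {F : Type u} [Field F] [Fintype F] {n q : ℕ}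

/-- A triangle inside `SU₄`. -/
abbrev tri : SU 3 F q →* SU 4 F q := bl 4 3 0

/-- The first three points. -/
abbrev p3 (hn : 4 ≤ n) : Fin 3 ↪ Fin n := shift 0 (show 0 + 3 ≤ n by omega)

/-- The first four points. -/
abbrev p4 (hn : 4 ≤ n) : Fin 4 ↪ Fin n := shift 0 (show 0 + 4 ≤ n by omega)

theorem exists_even_swap {k : ℕ} (f g : Fin k ↪ Fin n) {a b : Fin k} (hab : a ≠ b) :
    ∃ (σ : alternatingGroup (Fin n)) (p : Perm (Fin k)), (∀ i, i ≠ a → i ≠ b → p i = i) ∧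
      ∀ i, (σ : Perm (Fin n)) (f i) = g (p i) := by
  obtain ⟨σ, hσ⟩ := SLn.exists_perm f g f.injective g.injective
  rcases Int.units_eq_one_or (Perm.sign σ) with hs | hs
  · exact ⟨⟨σ, Perm.mem_alternatingGroup.mpr hs⟩, 1, fun i _ _ => rfl, hσ⟩
  · have hne : f a ≠ f b := fun e => hab (f.injective e)
    refine ⟨⟨σ * swap (f a) (f b), Perm.mem_alternatingGroup.mpr (by rw [map_mul, hs, Perm.sign_swap hne]; rfl)⟩,
      swap a b, fun i h h' => swap_apply_of_ne_of_ne h h', fun i => ?_⟩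
    show σ (swap (f a) (f b) (f i)) = _
    rw [← f.injective.map_swap, hσ]

theorem emap_fix {a b : ℕ} (f : Fin a ↪ Fin b) (A : SU a F q) {j : Fin b} (hj : ∀ i, f i ≠ j) :
    (emap f A : SU b F q) • (eI j : Fin b → F) = eI j := by
  refine ext_parts f (fun i => ?_) fun l hl => emap_off f A _ hl
  rw [emap_apply, show (eI j : Fin b → F) ∘ f = 0 from funext fun l => by simp [eI, hj l]]
  show ((A.1 : Matrix (Fin a) (Fin a) F).mulVec 0) i = _
  simp [eI, hj i]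

/-- An embedding with a given range. -/
theorem exists_emb_of_card (S : Finset (Fin n)) {k : ℕ} (h : S.card = k) :
    ∃ g : Fin k ↪ Fin n, ∀ x, x ∈ S ↔ ∃ i, g i = x := by
  refine ⟨(S.orderEmbOfFin h).toEmbedding, fun x => ?_⟩
  have := Finset.range_orderEmbOfFin S h
  rw [← Finset.mem_coe, ← this]
  rfl

/-- The second flip. -/
def dlt (hn : 5 ≤ n) : alternatingGroup (Fin n) :=
  ⟨swap (⟨1, by omega⟩ : Fin n) ⟨2, by omega⟩ * swap (⟨3, by omega⟩ : Fin n) ⟨4, by omega⟩, by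
    rw [Perm.mem_alternatingGroup, map_mul, Perm.sign_swap (by simp [Fin.ext_iff]),
      Perm.sign_swap (by simp [Fin.ext_iff])]
    rfl⟩

/-- The exchange of the last two coordinates of a triangle. -/
abbrev sw12 : SU 3 F q →* SU 3 F q := emap (pe (swap (1 : Fin 3) 2))

/-- The gluing data over the field with four elements. -/
structure G2 (F : Type u) [Field F] [Fintype F] (q : ℕ) {n : ℕ} (hn : 4 ≤ n) (hn5 : 5 ≤ n) (H : Type v) [Group H]
    where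
  θ : SU 4 F q →* H
  π : alternatingGroup (Fin n) →* H
  φ : H →* SU n F q
  φθ : φ.comp θ = bl n 4 0
  φπ : φ.comp π = permSU
  compat3 : θ (tri (permSU c3)) = π (w0 hn)
  compatB : θ (permSU (Glue.beta (show 4 ≤ 4 from le_rfl))) = π (Glue.beta hn)
  cent : ∀ τ : alternatingGroup (Fin n), (∀ i, (τ : Perm (Fin n)) (p3 hn i) = p3 hn i) →
    ∀ Y, Commute (π τ) (θ (tri Y))
  flip : ∀ Y, π (dlt hn5) * θ (tri Y) * (π (dlt hn5))⁻¹ = θ (tri (sw12 Y))

namespace G2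

variable {hn : 4 ≤ n} {hn5 : 5 ≤ n} {H : Type v} [Group H] (D : G2 F q hn hn5 H)

/-- A placed triangle. -/
def ψ (σ : alternatingGroup (Fin n)) : SU 3 F q →* H :=
  (MulAut.conj (D.π σ)).toMonoidHom.comp (D.θ.comp tri)

theorem ψ_apply (σ : alternatingGroup (Fin n)) (Y : SU 3 F q) : D.ψ σ Y = D.π σ * D.θ (tri Y) * (D.π σ)⁻¹ := rfl

theorem ψ_conj (τ σ : alternatingGroup (Fin n)) (Y : SU 3 F q) :
    D.π τ * D.ψ σ Y * (D.π τ)⁻¹ = D.ψ (τ * σ) Y := by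
  rw [ψ_apply, ψ_apply, map_mul]; group

theorem ψ_one (Y : SU 3 F q) : D.ψ 1 Y = D.θ (tri Y) := by
  rw [ψ_apply, map_one, one_mul, inv_one, mul_one]

theorem φ_θ (Y : SU 4 F q) : D.φ (D.θ Y) = bl n 4 0 Y := DFunLike.congr_fun D.φθ Y

theorem φ_π (τ : alternatingGroup (Fin n)) : D.φ (D.π τ) = permSU τ := DFunLike.congr_fun D.φπ τ

theorem φ_ψ (σ : alternatingGroup (Fin n)) (Y : SU 3 F q) :
    D.φ (D.ψ σ Y) = emap ((p3 hn).trans ((σ : Perm (Fin n)).toEmbedding)) Y := by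
  rw [ψ_apply, map_mul, map_mul, map_inv, φ_π, φ_θ, tri, bl_comp_apply (m := 0) (by omega) (by norm_num) rfl,
    bl_eq (show 0 + 3 ≤ n by omega)]
  exact permSU_conj σ (fun i => rfl) Y

theorem θ_inj {Y : SU 4 F q} (h : D.φ (D.θ Y) = 1) : D.θ Y = 1 := by
  rw [φ_θ] at h
  rw [bl_injective (show 0 + 4 ≤ n by omega) (h.trans (map_one _).symm), map_one]

theorem θ_eq {Y Z : SU 4 F q} (h : D.φ (D.θ Y) = D.φ (D.θ Z)) : D.θ Y = D.θ Z := by
  rw [φ_θ, φ_θ] at h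
  rw [bl_injective (show 0 + 4 ≤ n by omega) h]

/-- The permutations normalising the first triangle. -/
def St : Subgroup (alternatingGroup (Fin n)) where
  carrier := {τ | (∀ Y, ∃ Y', D.π τ * D.θ (tri Y) * (D.π τ)⁻¹ = D.θ (tri Y')) ∧
    ∀ Y, ∃ Y', (D.π τ)⁻¹ * D.θ (tri Y) * D.π τ = D.θ (tri Y')}
  one_mem' := ⟨fun Y => ⟨Y, by simp⟩, fun Y => ⟨Y, by simp⟩⟩
  mul_mem' {a b} ha hb := by
    refine ⟨fun Y => ?_, fun Y => ?_⟩
    · obtain ⟨Y1, h1⟩ := hb.1 Y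
      obtain ⟨Y2, h2⟩ := ha.1 Y1
      exact ⟨Y2, by rw [← h2, ← h1, map_mul]; group⟩
    · obtain ⟨Y1, h1⟩ := ha.2 Y
      obtain ⟨Y2, h2⟩ := hb.2 Y1
      exact ⟨Y2, by rw [← h2, ← h1, map_mul]; group⟩
  inv_mem' {a} ha := by
    refine ⟨fun Y => ?_, fun Y => ?_⟩
    · obtain ⟨Y1, h1⟩ := ha.2 Y
      exact ⟨Y1, by rw [← h1, map_inv, inv_inv]⟩
    · obtain ⟨Y1, h1⟩ := ha.1 Y
      exact ⟨Y1, by rw [← h1, map_inv, inv_inv]⟩

theorem dlt_apply :
    (dlt hn5 : Perm (Fin n)) (p3 hn 0) = p3 hn 0 ∧ (dlt hn5 : Perm (Fin n)) (p3 hn 1) = p3 hn 2 ∧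
      (dlt hn5 : Perm (Fin n)) (p3 hn 2) = p3 hn 1 := by
  simp only [dlt, Perm.mul_apply]
  refine ⟨?_, ?_, ?_⟩
  · rw [swap_apply_of_ne_of_ne (a := (⟨3, by omega⟩ : Fin n)) (by simp [Fin.ext_iff, shift_val])
      (by simp [Fin.ext_iff, shift_val]),
      swap_apply_of_ne_of_ne (by simp [Fin.ext_iff, shift_val]) (by simp [Fin.ext_iff, shift_val])]
  · rw [swap_apply_of_ne_of_ne (a := (⟨3, by omega⟩ : Fin n)) (by simp [Fin.ext_iff, shift_val])
      (by simp [Fin.ext_iff, shift_val]),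
      show (p3 hn 1 : Fin n) = ⟨1, by omega⟩ from rfl, swap_apply_left]
    rfl
  · rw [swap_apply_of_ne_of_ne (a := (⟨3, by omega⟩ : Fin n)) (by simp [Fin.ext_iff, shift_val])
      (by simp [Fin.ext_iff, shift_val]),
      show (p3 hn 2 : Fin n) = ⟨2, by omega⟩ from rfl, swap_apply_right]
    rfl

theorem w0_p3 (c : Fin 3) : (w0 hn : Perm (Fin n)) (p3 hn c) = p3 hn (c + 1) := by
  have hs : ∀ c, p3 hn c = Glue.e3 hn c := fun c => Fin.ext (Nat.zero_add _)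
  rw [hs, hs]; exact w0_pt3 hn c

theorem mem_St {τ : alternatingGroup (Fin n)} (h : ∀ i, ∃ l, (τ : Perm (Fin n)) (p3 hn i) = p3 hn l) :
    τ ∈ D.St := by
  have hw : w0 hn ∈ D.St := by
    refine ⟨fun Y => ⟨permSU c3 * Y * (permSU c3)⁻¹, ?_⟩, fun Y => ⟨(permSU c3)⁻¹ * Y * permSU c3, ?_⟩⟩ <;>
      simp only [← D.compat3, map_mul, map_inv]
  have hfix : ∀ τ : alternatingGroup (Fin n), (∀ i, (τ : Perm (Fin n)) (p3 hn i) = p3 hn i) → τ ∈ D.St :=
    fun τ hτ => ⟨fun Y => ⟨Y, by rw [(D.cent τ hτ Y).eq, mul_inv_cancel_right]⟩,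
      fun Y => ⟨Y, by rw [mul_assoc, ← (D.cent τ hτ Y).eq, inv_mul_cancel_left]⟩⟩
  have hδ : dlt hn5 ∈ D.St := by
    refine ⟨fun Y => ⟨_, D.flip Y⟩, fun Y => ⟨sw12 Y, ?_⟩⟩
    have e := D.flip (sw12 Y)
    rw [show sw12 (sw12 Y) = Y by
      rw [← MonoidHom.comp_apply, emap_comp, show (pe (swap (1 : Fin 3) 2)).trans (pe (swap 1 2)) =
        Function.Embedding.refl _ from Function.Embedding.ext fun i => swap_apply_self _ _ i, emap_refl]] at e
    rw [← e]; group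
  obtain ⟨l, hl⟩ := h 0
  set τ1 := (w0 hn)⁻¹ ^ (l : ℕ) * τ with hτ1
  suffices τ1 ∈ D.St by
    have := mul_mem (pow_mem hw (l : ℕ)) this
    rwa [hτ1, inv_pow, mul_inv_cancel_left] at this
  have hinv : ∀ c, ((w0 hn)⁻¹ : alternatingGroup (Fin n)).1 (p3 hn c) = p3 hn (c - 1) := fun c => by
    rw [Subgroup.coe_inv, Perm.inv_eq_iff_eq, w0_p3, sub_add_cancel]
  have hwp : ∀ c, ((w0 hn)⁻¹ ^ (l : ℕ) : alternatingGroup (Fin n)).1 (p3 hn c) = p3 hn (c - l) := by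
    intro c
    fin_cases l
    · simp
    · simpa using hinv c
    · simp only [pow_two, Subgroup.coe_mul, Perm.mul_apply, hinv]
      congr 1
      revert c; decide
  have h0 : (τ1 : Perm (Fin n)) (p3 hn 0) = p3 hn 0 := by
    rw [hτ1, Subgroup.coe_mul, Perm.mul_apply, hl, hwp, sub_self]
  have h' : ∀ i, ∃ l', (τ1 : Perm (Fin n)) (p3 hn i) = p3 hn l' := fun i => by
    obtain ⟨l', hl'⟩ := h i
    exact ⟨l' - l, by rw [hτ1, Subgroup.coe_mul, Perm.mul_apply, hl', hwp]⟩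
  have finish : ∀ σ : alternatingGroup (Fin n), (σ : Perm (Fin n)) (p3 hn 0) = p3 hn 0 →
      (σ : Perm (Fin n)) (p3 hn 1) = p3 hn 1 → (∃ l', (σ : Perm (Fin n)) (p3 hn 2) = p3 hn l') → σ ∈ D.St := by
    intro σ a b ⟨c, hc⟩
    refine hfix σ fun i => ?_
    fin_cases i
    · exact a
    · exact b
    · fin_cases c
      · exact absurd ((σ : Perm (Fin n)).injective (hc.trans a.symm)) (by simp [Fin.ext_iff, shift_val])
      · exact absurd ((σ : Perm (Fin n)).injective (hc.trans b.symm)) (by simp [Fin.ext_iff, shift_val])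
      · exact hc
  obtain ⟨l1, hl1⟩ := h' 1
  fin_cases l1
  · exact absurd ((τ1 : Perm (Fin n)).injective (hl1.trans h0.symm)) (by simp [Fin.ext_iff, shift_val])
  · exact finish τ1 h0 hl1 (h' 2)
  · obtain ⟨d0, d1, d2'⟩ := dlt_apply (hn := hn) (hn5 := hn5)
    have := finish (dlt hn5 * τ1) (by rw [Subgroup.coe_mul, Perm.mul_apply, h0, d0])
      (by rw [Subgroup.coe_mul, Perm.mul_apply, hl1]; exact d2') (by
        obtain ⟨l2, hl2⟩ := h' 2
        rw [Subgroup.coe_mul, Perm.mul_apply, hl2]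
        fin_cases l2
        exacts [⟨0, d0⟩, ⟨2, d1⟩, ⟨1, d2'⟩])
    simpa using mul_mem (inv_mem hδ) this

/-- Placements with the same set give the same image. -/
theorem ψ_set {σ σ' : alternatingGroup (Fin n)}
    (h : ∀ i, ∃ l, (σ : Perm (Fin n)) (p3 hn i) = (σ' : Perm (Fin n)) (p3 hn l)) (Y : SU 3 F q) :
    ∃ Y', D.ψ σ Y = D.ψ σ' Y' := by
  have hm : σ'⁻¹ * σ ∈ D.St := D.mem_St fun i => by
    obtain ⟨l, hl⟩ := h i
    exact ⟨l, by rw [Subgroup.coe_mul, Subgroup.coe_inv, Perm.mul_apply, hl, Perm.inv_eq_iff_eq]⟩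
  obtain ⟨Y', hY⟩ := hm.1 Y
  refine ⟨Y', ?_⟩
  rw [ψ_apply, ψ_apply, ← hY, map_mul, map_inv]; group

/-- The placement lies in a set. -/
def In (hn : 4 ≤ n) (σ : alternatingGroup (Fin n)) (S : Finset (Fin n)) : Prop :=
  ∀ i, (σ : Perm (Fin n)) (p3 hn i) ∈ S

/-- The group on a set of points. -/
def HS (S : Finset (Fin n)) : Subgroup H := ⨆ (σ : alternatingGroup (Fin n)) (_ : In hn σ S), (D.ψ σ).range

theorem ψ_mem {σ : alternatingGroup (Fin n)} {S : Finset (Fin n)} (h : In hn σ S) (Y : SU 3 F q) :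
    D.ψ σ Y ∈ D.HS S :=
  le_iSup₂ (f := fun σ (_ : In hn σ S) => (D.ψ σ).range) σ h ⟨Y, rfl⟩

theorem HS_le {S : Finset (Fin n)} {P : Subgroup H} (h : ∀ σ, In hn σ S → ∀ Y, D.ψ σ Y ∈ P) : D.HS S ≤ P :=
  iSup₂_le fun σ hσ => by rintro _ ⟨Y, rfl⟩; exact h σ hσ Y

theorem HS_mono {S T : Finset (Fin n)} (h : S ⊆ T) : D.HS S ≤ D.HS T :=
  D.HS_le fun σ hσ Y => D.ψ_mem (fun i => h (hσ i)) Y

theorem conj_mem {S T : Finset (Fin n)} {τ : alternatingGroup (Fin n)} (h : ∀ x ∈ S, (τ : Perm (Fin n)) x ∈ T)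
    {x : H} (hx : x ∈ D.HS S) : D.π τ * x * (D.π τ)⁻¹ ∈ D.HS T := by
  have : D.HS S ≤ (D.HS T).comap (MulAut.conj (D.π τ)).toMonoidHom := D.HS_le fun σ hσ Y => by
    show D.π τ * D.ψ σ Y * (D.π τ)⁻¹ ∈ D.HS T
    rw [ψ_conj]
    exact D.ψ_mem (fun i => by rw [Subgroup.coe_mul, Perm.mul_apply]; exact h _ (hσ i)) Y
  exact this hx

/-- The image fixes the other coordinates. -/
theorem φ_fix {S : Finset (Fin n)} {x : H} (hx : x ∈ D.HS S) {j : Fin n} (hj : j ∉ S) :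
    D.φ x • (eI j : Fin n → F) = eI j := by
  have : D.HS S ≤ (fixS {j} : Subgroup (SU n F q)).comap D.φ := D.HS_le fun σ hσ Y => by
    refine mem_fixS.2 fun i hi => ?_
    rw [Finset.mem_singleton.1 hi, φ_ψ]
    exact emap_fix _ _ fun l e => hj (e ▸ hσ l)
  exact mem_fixS.1 (this hx) j (Finset.mem_singleton_self j)

theorem π_mem {S : Finset (Fin n)} (h3 : 3 ≤ S.card) {τ : alternatingGroup (Fin n)}
    (hτ : (τ : Perm (Fin n)) ∈ altOn S) : D.π τ ∈ D.HS S := by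
  obtain ⟨a, ha, b, hb, hab⟩ := Finset.one_lt_card.mp (show 1 < S.card by omega)
  have hle : altOn S ≤ ((D.HS S).comap D.π).map (alternatingGroup (Fin n)).subtype := by
    refine altOn_le hab fun j hj hja hjb => ?_
    obtain ⟨σ, hσ⟩ := exists_even (k := 3) (by omega) (p3 hn)
      ⟨![a, b, j], Glue.inj3 hab (Ne.symm hjb) (Ne.symm hja)⟩
    refine ⟨σ * w0 hn * σ⁻¹, ?_, ?_⟩
    · rw [SetLike.mem_coe, Subgroup.mem_comap]
      rw [map_mul, map_mul, map_inv, ← D.compat3]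
      refine D.ψ_mem (fun i => ?_) (permSU c3)
      rw [hσ i]
      fin_cases i <;> assumption
    · show ((σ * w0 hn * σ⁻¹ : alternatingGroup (Fin n)) : Perm (Fin n)) = _
      rw [Subgroup.coe_mul, Subgroup.coe_mul, Subgroup.coe_inv]
      show _ * cyc3 _ _ _ * _ = _
      rw [cyc3_conj]
      exact congr (congrArg₂ cyc3 (hσ 0) (hσ 1)) (hσ 2)
  obtain ⟨τ', h', e'⟩ := hle hτ
  rwa [show τ' = τ from Subtype.ext e'] at h'

/-- The set of the first `k` points. -/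
def I (n k : ℕ) : Finset (Fin n) := Finset.univ.filter fun x => (x : ℕ) < k

theorem mem_I {k : ℕ} {x : Fin n} : x ∈ I n k ↔ (x : ℕ) < k := by simp [I]

theorem card_I {k : ℕ} (hk : k ≤ n) : (I n k).card = k := by
  rw [show I n k = Finset.univ.map ⟨Fin.castLE hk, Fin.castLE_injective hk⟩ from ?_, Finset.card_map,
    Finset.card_univ, Fintype.card_fin]
  ext x
  simp only [mem_I, Finset.mem_map, Finset.mem_univ, true_and, Function.Embedding.coeFn_mk]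
  exact ⟨fun h => ⟨⟨x, h⟩, rfl⟩, fun ⟨i, e⟩ => e ▸ i.isLt⟩

variable (hF : Fintype.card F = q ^ 2) (hq : q = 2)

include hF

theorem emb_of_phi {S : Finset (Fin n)} {g : SU n F q} (hg : ∀ j ∉ S, g • (eI j : Fin n → F) = eI j) {k : ℕ}
    (f : Fin k ↪ Fin n) (hf : ∀ x ∈ S, ∃ i, f i = x) : ∃ Y, emap f Y = g :=
  exists_emap hF f fun j hj => hg j fun h => by
    obtain ⟨i, hi⟩ := hf j h
    exact hj i hi

theorem θ_range_le : D.θ.range ≤ D.HS (I n 4) := by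
  have h1 : In hn (1 : alternatingGroup (Fin n)) (I n 4) := fun i => mem_I.2 (by
    show (p3 hn i : ℕ) < 4
    simp [shift_val]; omega)
  have hwβ : ∀ τ : alternatingGroup (Fin n), τ = Glue.beta hn ∨ τ = w0 hn → D.π τ ∈ D.HS (I n 4) := by
    intro τ hτ
    refine D.π_mem (by rw [card_I (by omega)]; norm_num) ⟨Perm.mem_alternatingGroup.mp τ.2, fun x hx => ?_⟩
    rw [mem_I, not_lt] at hx
    rcases hτ with rfl | rfl
    · show swap (Glue.o0 hn) (Glue.o1 hn) (swap (Glue.o2 hn) (Glue.o3 hn) x) = x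
      rw [swap_apply_of_ne_of_ne (a := Glue.o2 hn) (by intro e; subst e; simp at hx) (by intro e; subst e; simp at hx),
        swap_apply_of_ne_of_ne (by intro e; subst e; simp at hx) (by intro e; subst e; simp at hx)]
    · exact cyc3_of_ne (by intro e; subst e; simp [pt3] at hx) (by intro e; subst e; simp [pt3] at hx)
        (by intro e; subst e; simp [pt3] at hx)
  set b4 := Glue.beta (show 4 ≤ 4 from le_rfl) with hb4
  have hs0 : (permSU b4 : SU 4 F q) • (eI 0 : Fin 4 → F) = eI 1 := by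
    rw [permSU_smul_eI]; exact congrArg eI (beta_o0 (show 4 ≤ 4 from le_rfl))
  set ρ := w0 (show 4 ≤ 4 from le_rfl) * b4 * (w0 (show 4 ≤ 4 from le_rfl))⁻¹ with hρ
  have hρθ : D.θ (permSU ρ) ∈ D.HS (I n 4) := by
    rw [hρ, map_mul, map_mul, map_inv, map_mul, map_mul, map_inv, ← model_compat le_rfl, ← tri, D.compat3, hb4,
      D.compatB]
    exact mul_mem (mul_mem (hwβ _ (Or.inr rfl)) (hwβ _ (Or.inl rfl))) (inv_mem (hwβ _ (Or.inr rfl)))
  have := su4_top hF ((D.HS (I n 4)).comap D.θ) (fun Y => ?_) (s := permSU b4)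
    (by rw [Subgroup.mem_comap, hb4, D.compatB]; exact hwβ _ (Or.inl rfl)) hs0
  · rintro _ ⟨Y, rfl⟩
    exact (Subgroup.eq_top_iff' _).mp this Y
  · rw [Subgroup.mem_comap]
    have e : (permSU ρ * tri (emap (pe (swap (0 : Fin 3) 2)) Y) * (permSU ρ)⁻¹ : SU 4 F q) = bl 4 3 1 Y := by
      rw [tri, bl_eq (show 0 + 3 ≤ 4 by norm_num), ← MonoidHom.comp_apply (emap _), emap_comp,
        bl_eq (show 1 + 3 ≤ 4 by norm_num)]
      refine permSU_conj ρ (fun i => ?_) Y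
      have : ∀ i : Fin 3, (ρ : Perm (Fin 4)) ((shift 0 (show 0 + 3 ≤ 4 by norm_num)) (swap (0 : Fin 3) 2 i)) =
          shift 1 (show 1 + 3 ≤ 4 by norm_num) i := by decide
      exact this i
    rw [← e, map_mul, map_mul, map_inv]
    exact mul_mem (mul_mem hρθ (by rw [← D.ψ_one]; exact D.ψ_mem h1 _)) (inv_mem hρθ)

theorem HS_four_le : D.HS (I n 4) ≤ D.θ.range := by
  have hw : D.π (w0 hn) ∈ D.θ.range := ⟨_, D.compat3⟩
  have hb : D.π (Glue.beta hn) ∈ D.θ.range := ⟨_, D.compatB⟩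
  set ρ := w0 hn * Glue.beta hn * (w0 hn)⁻¹ with hρ
  have hr : D.π ρ ∈ D.θ.range := by
    rw [hρ, map_mul, map_mul, map_inv]
    exact mul_mem (mul_mem hw hb) (inv_mem hw)
  have hpt : ∀ (τ : alternatingGroup (Fin n)) (f : Fin 4 → Fin 4),
      (∀ i, (τ : Perm (Fin n)) (p4 hn i) = p4 hn (f i)) → Function.Injective f →
      D.π τ ∈ D.θ.range → ∀ σ, In hn σ (I n 4) → (∀ i, (σ : Perm (Fin n)) (p3 hn i) ≠ p4 hn (f 3)) →
      ∀ Y, D.ψ σ Y ∈ D.θ.range := by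
    intro τ f hτ hf hτr σ hσ hne Y
    have hset : ∀ i, ∃ l, (σ : Perm (Fin n)) (p3 hn i) = (τ : Perm (Fin n)) (p3 hn l) := fun i => by
      obtain ⟨m, hm⟩ : ∃ m : Fin 4, p4 hn m = (σ : Perm (Fin n)) (p3 hn i) :=
        ⟨⟨_, mem_I.1 (hσ i)⟩, Fin.ext (by simp [shift_val])⟩
      obtain ⟨m', rfl⟩ := (Finite.injective_iff_surjective.1 hf) m
      have : m' ≠ 3 := fun e => hne i (by rw [← hm, e])
      obtain ⟨l, rfl⟩ : ∃ l : Fin 3, m' = Fin.castSucc l :=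
        ⟨⟨m', by omega⟩, rfl⟩
      exact ⟨l, by rw [← hm, ← hτ]; rfl⟩
    obtain ⟨Y', hY⟩ := D.ψ_set (σ' := τ) hset Y
    rw [hY, ψ_apply]
    exact mul_mem (mul_mem hτr ⟨_, rfl⟩) (inv_mem hτr)
  refine D.HS_le fun σ hσ Y => ?_
  obtain ⟨m, hm⟩ : ∃ m : Fin 4, ∀ i, (σ : Perm (Fin n)) (p3 hn i) ≠ p4 hn m := by
    by_contra hc
    push Not at hc
    choose g hg using hc
    have hinj : Function.Injective g := fun a b e => (p4 hn).injective ((hg a).symm.trans (e ▸ hg b))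
    have := Fintype.card_le_of_injective g hinj
    simp at this
  have hb4 : ∀ i, (Glue.beta hn : Perm (Fin n)) (p4 hn i) = p4 hn (![1, 0, 3, 2] i) := fun i => by
    show swap (Glue.o0 hn) (Glue.o1 hn) (swap (Glue.o2 hn) (Glue.o3 hn) (p4 hn i)) = _
    fin_cases i <;> simp [Equiv.swap_apply_def, Fin.ext_iff, shift_val]
  have hw4 : ∀ i, (w0 hn : Perm (Fin n)) (p4 hn i) = p4 hn (![1, 2, 0, 3] i) := fun i => by
    fin_cases i
    · exact w0_p3 (hn := hn) 0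
    · exact w0_p3 (hn := hn) 1
    · exact w0_p3 (hn := hn) 2
    · exact cyc3_of_ne (by simp [Fin.ext_iff, shift_val, pt3]) (by simp [Fin.ext_iff, shift_val, pt3])
        (by simp [Fin.ext_iff, shift_val, pt3])
  have hρ4 : ∀ i, (ρ : Perm (Fin n)) (p4 hn i) = p4 hn (![3, 2, 1, 0] i) := fun i => by
    obtain ⟨j, rfl⟩ : ∃ j : Fin 4, ![1, 2, 0, 3] j = i := by revert i; decide
    rw [← hw4 j, hρ, Subgroup.coe_mul, Perm.mul_apply, Subgroup.coe_inv, Perm.inv_def, Equiv.symm_apply_apply,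
      Subgroup.coe_mul, Perm.mul_apply, hb4, hw4]
    congr 1
    revert j; decide
  fin_cases m
  · exact hpt ρ _ hρ4 (by decide) hr σ hσ hm Y
  · refine hpt (w0 hn * ρ) (fun i => ![1, 2, 0, 3] (![3, 2, 1, 0] i)) (fun i => ?_) (by decide) ?_ σ hσ hm Y
    · rw [Subgroup.coe_mul, Perm.mul_apply, hρ4, hw4]
    · rw [map_mul]; exact mul_mem hw hr
  · exact hpt (Glue.beta hn) _ hb4 (by decide) hb σ hσ hm Y
  · exact hpt 1 id (fun i => rfl) (fun _ _ h => h) (by rw [map_one]; exact one_mem _) σ hσ hm Y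

end G2

end Cfsg.Agent.KSG55.U6
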