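import Cfsg.Agent.KSG55.U6.TwoComm2
import Cfsg.Agent.KSG55.SUStep.Main

/-!
Point sets of every size carry the expected group: the step by the covering argument.
-/

set_option autoImplicit false
set_option linter.unusedSectionVars false

namespace Cfsg.Agent.KSG55.U6

open Equiv Cfsg.Agent.Unitary Cfsg.Agent.KSG55.Pres Cfsg.Agent.KSG55.Phan Cfsg.Agent.KSG55.SLn
open Cfsg.Agent.KSG55.SUStep (exists_fixS_one mem_of_swap cov_injective Cov Par v0)

universe u v

variable {F : Type u} [Field F] [Fintype F] {n q : ℕ}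

namespace G2

variable {hn : 4 ≤ n} {hn5 : 5 ≤ n} {H : Type v} [Group H] (D : G2 F q hn hn5 H)
variable (hF : Fintype.card F = q ^ 2)

include hF

/-- A block on the second, third and fourth point. -/
theorem θ_tail (Z : SU 3 F q) : D.θ (bl 4 3 1 Z) ∈ D.HS ((I n 4).erase (p3 hn 0)) := by
  have hc : ((I n 4).erase (p3 hn 0)).card = 3 := by
    rw [Finset.card_erase_of_mem (mem_I.2 (by simp [shift_val])), card_I hn]
  obtain ⟨x, hx, e⟩ := (D.good3 hF _ hc).2 (D.φ (D.θ (bl 4 3 1 Z))) fun j hj => by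
    rw [φ_θ, bl_comp_apply (m := 1) (by omega) (by norm_num) (Nat.zero_add 1)]
    refine bl_fix hF (by omega) _ ?_
    rw [Finset.mem_erase, mem_I, not_and_or, not_not] at hj
    rcases hj with h | h
    · left; rw [h]; simp [shift_val]
    · right; omega
  rwa [(D.good4 hF (I n 4) (card_I hn)).eq D (D.θ_range_le hF ⟨_, rfl⟩) (D.HS_mono (Finset.erase_subset _ _) hx) e.symm]

variable {ω : F} {hω : ω ^ (q + 1) = 1} {t : SU 3 F q}

/-- The diagonal element normalises the group on a set avoiding the first point. -/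
theorem d_norm (hq : q = 2) (R : D.Far ω hω t) {S' : Finset (Fin n)} (ho : p3 hn 0 ∉ S') {y : H}
    (hy : y ∈ D.HS S') :
    (D.θ (tri (io (d2 ω hω))))⁻¹ * y * D.θ (tri (io (d2 ω hω))) ∈ D.HS S' := by
  set d := D.θ (tri (io (d2 ω hω))) with hd
  have hle : D.HS S' ≤ (D.HS S').comap (MulAut.conj d⁻¹).toMonoidHom := D.HS_le fun σ hσ Y => by
    show d⁻¹ * D.ψ σ Y * d⁻¹⁻¹ ∈ D.HS S'
    rw [inv_inv]
    by_cases h1 : ∃ i, (σ : Perm (Fin n)) (p3 hn i) = p3 hn 1
    · obtain ⟨i1, hi1⟩ := h1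
      set T := Finset.univ.map ((p3 hn).trans ((σ : Perm (Fin n)).toEmbedding)) with hT
      have ho' : p3 hn 0 ∉ T := fun h => by
        obtain ⟨i, -, e⟩ := Finset.mem_map.1 h
        exact ho (e ▸ hσ i)
      set U := insert (p3 hn 0) T with hU
      have hU4 : U.card = 4 := by
        rw [hU, Finset.card_insert_of_notMem ho', hT, Finset.card_map, Finset.card_univ, Fintype.card_fin]
      have hTm : ∀ i, (σ : Perm (Fin n)) (p3 hn i) ∈ T := fun i => Finset.mem_map.2 ⟨i, Finset.mem_univ _, rfl⟩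
      have hdU : d ∈ D.HS U := by
        rw [hd, ← D.ψ_one]
        refine D.pair_mem hF (by omega) ?_ ?_ _
        · exact Finset.mem_insert_self _ _
        · exact Finset.mem_insert_of_mem (by show p3 hn 1 ∈ T; exact hi1 ▸ hTm i1)
      have hY : ∀ Y, D.ψ σ Y ∈ D.HS U := fun Y => D.ψ_mem (fun i => Finset.mem_insert_of_mem (hTm i)) Y
      obtain ⟨Y', hY'⟩ := emb_of_phi hF (g := D.φ (d⁻¹ * D.ψ σ Y * d)) (S := T) (fun j hj => by
        rw [map_mul, map_mul, map_inv, hd, ← D.ψ_one, φ_pair, φ_ψ, d2, mul_smul, mul_smul, inv_smul_eq_iff,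
          diag_emap]
        set c := Function.extend ((shift 0 (show 0 + 2 ≤ n by omega)).trans
          (((1 : alternatingGroup (Fin n)) : Perm (Fin n)).toEmbedding)) (![ω, ω⁻¹] : Fin 2 → F) 1
        rw [show (fun l => c l * (eI j : Fin n → F) l) = c j • eI j from funext fun l => by
          by_cases hl : l = j
          · subst hl; rfl
          · simp [eI, hl], lineSmul, emap_fix _ _ fun l e => hj (Finset.mem_map.2 ⟨l, Finset.mem_univ _, e⟩)])
        ((p3 hn).trans ((σ : Perm (Fin n)).toEmbedding)) fun x hx => by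
          obtain ⟨i, -, e⟩ := Finset.mem_map.1 hx; exact ⟨i, e⟩
      rw [(D.good4 hF U hU4).eq D (mul_mem (mul_mem (inv_mem hdU) (hY Y)) hdU) (hY Y') (by rw [φ_ψ, hY'])]
      exact D.ψ_mem hσ Y'
    · push Not at h1
      rw [mul_assoc, ← (D.comm_five hF hq R (fun i => ⟨fun e => ho (e ▸ hσ i), h1 i⟩) (d2 ω hω) Y).eq,
        inv_mul_cancel_left]
      exact D.ψ_mem hσ Y
  simpa using hle hy

set_option maxHeartbeats 2000000 in
/-- The step. -/
theorem good_step (hq : q = 2) (R : D.Far ω hω t) (j : ℕ) (hN : j + 5 ≤ n)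
    (IH : ∀ S : Finset (Fin n), 3 ≤ S.card → S.card < j + 5 → D.Good S) : D.Good (I n (j + 5)) := by
  classical
  set o := p3 hn 0 with ho_def
  set G := D.HS (I n (j + 5)) with hGdef
  set S' := (I n (j + 5)).erase o with hS'def
  have ho : o ∉ S' := Finset.notMem_erase o _
  have hoI : o ∈ I n (j + 5) := mem_I.2 (by simp [ho_def, shift_val])
  have hc' : S'.card = j + 4 := by rw [hS'def, Finset.card_erase_of_mem hoI, card_I hN]; omega
  have gS' : D.Good S' := IH S' (by omega) (by omega)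
  have hS'G : D.HS S' ≤ G := D.HS_mono (Finset.erase_subset _ _)
  set sh := shift 0 (show 0 + (j + 5) ≤ n by omega) with hsh
  have mem_sh : ∀ {x : Fin n}, x ∈ I n (j + 5) → ∃ i, sh i = x := fun {x} hx =>
    ⟨⟨x, mem_I.1 hx⟩, Fin.ext (by simp [hsh, shift_val])⟩
  have shI : ∀ i, sh i ∈ I n (j + 5) := fun i => mem_I.2 (by simp [hsh, shift_val])
  have sh0 : sh 0 = o := Fin.ext (by simp [hsh, ho_def, shift_val])
  have sh1 : sh 1 = p3 hn 1 := Fin.ext (by simp [hsh, shift_val])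
  -- the map to the group of the expected dimension
  choose f hf using fun x : G => emb_of_phi hF (g := D.φ x.1) (fun k hk => D.φ_fix x.2 hk) sh fun _ => mem_sh
  let φ' : G →* SU (j + 5) F q := MonoidHom.mk' f fun a b => emap_injective sh (by
    rw [map_mul, hf, hf, hf]; exact map_mul D.φ a.1 b.1)
  have hφ' : ∀ x : G, emap sh (φ' x) = D.φ x.1 := hf
  have h4G : ∀ Y, D.θ Y ∈ G := fun Y =>
    D.HS_mono (fun x hx => mem_I.2 (lt_of_lt_of_le (mem_I.1 hx) (by omega))) (D.θ_range_le hF ⟨Y, rfl⟩)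
  have hφθ : ∀ Y, φ' ⟨D.θ Y, h4G Y⟩ = bl (j + 5) 4 0 Y := fun Y => emap_injective sh (by
    rw [hφ', ← bl_eq (show 0 + (j + 5) ≤ n by omega), bl_comp_apply (m := 0) (by omega) (by omega) rfl]
    exact D.φ_θ Y)
  have e4 : ∀ (Y : SU 4 F q) (a b : Fin 4) (c : F), Y • (eI a : Fin 4 → F) = c • eI b →
      φ' ⟨D.θ Y, h4G Y⟩ • (eI (shift 0 (show 0 + 4 ≤ j + 5 by omega) a) : Fin (j + 5) → F) =
        c • eI (shift 0 (show 0 + 4 ≤ j + 5 by omega) b) := fun Y a b c h => by
    rw [hφθ]; exact bl_smul_eI (show 0 + 4 ≤ j + 5 by omega) h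
  have s40 : shift 0 (show 0 + 4 ≤ j + 5 by omega) 0 = 0 := Fin.ext (by simp [shift_val])
  have s41 : shift 0 (show 0 + 4 ≤ j + 5 by omega) 1 = 1 := Fin.ext (by simp [shift_val])
  have s42 : shift 0 (show 0 + 4 ≤ j + 5 by omega) 2 = 2 := Fin.ext (by simp [shift_val, Nat.mod_eq_of_lt])
  have s43 : shift 0 (show 0 + 4 ≤ j + 5 by omega) 3 = 3 := Fin.ext (by simp [shift_val, Nat.mod_eq_of_lt])
  -- fixed vectors
  have hfixS : ∀ (x : G), (x : H) ∈ D.HS S' → φ' x • (eI 0 : Fin (j + 5) → F) = eI 0 := fun x hx => by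
    have h := D.φ_fix hx ho
    rw [← hφ', ← sh0] at h
    funext i
    have := congrFun h (sh i)
    rw [emap_apply, show (eI (sh 0) : Fin n → F) ∘ sh = eI 0 from funext fun m => by
      simp [eI, Pi.single_apply, sh.injective.eq_iff]] at this
    rw [this]; simp [eI, Pi.single_apply, sh.injective.eq_iff]
  have back : ∀ (g : SU (j + 5) F q) (i : Fin (j + 5)), g • (eI i : Fin (j + 5) → F) = eI i →
      (emap sh g : SU n F q) • (eI (sh i) : Fin n → F) = eI (sh i) := fun g i h => by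
    refine ext_parts sh (fun m => ?_) fun m hm => emap_off _ g _ hm
    rw [emap_apply, show (eI (sh i) : Fin n → F) ∘ sh = eI i from funext fun m => by
      simp [eI, Pi.single_apply, sh.injective.eq_iff], h]
    simp [eI, Pi.single_apply, sh.injective.eq_iff]
  -- the subgroup
  set X4 : SU 4 F q := tri (io (d2 ω hω)) with hX4
  set d := D.θ X4 with hd
  have hω3 : ω ^ 3 = 1 := by have := hω; rwa [hq] at this
  have hd3 : d ^ 3 = 1 := by
    have e : (d2 ω hω : SU 2 F q) ^ 3 = 1 := by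
      rw [d2_pow hω]
      refine eq_of_smul_eq_SU fun v => ?_
      rw [d2, dg_smul, one_smul]
      funext i; fin_cases i <;> simp [hω3]
    rw [hd, hX4, ← map_pow, ← map_pow, ← map_pow, e, map_one, map_one, map_one]
  have hnorm : ∀ (l : ℕ) (y : H), y ∈ D.HS S' → (d ^ l)⁻¹ * y * d ^ l ∈ D.HS S' := by
    intro l
    induction l with
    | zero => intro y hy; simpa using hy
    | succ l ih =>
      intro y hy
      rw [pow_succ, show (d ^ l * d)⁻¹ * y * (d ^ l * d) = d⁻¹ * ((d ^ l)⁻¹ * y * d ^ l) * d by group]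
      exact D.d_norm hF hq R ho (ih y hy)
  let K : Subgroup H :=
    { carrier := {x | ∃ i : ℕ, ∃ y ∈ D.HS S', x = d ^ i * y}
      one_mem' := ⟨0, 1, one_mem _, by simp⟩
      mul_mem' := by
        rintro _ _ ⟨i, y, hy, rfl⟩ ⟨l, y', hy', rfl⟩
        exact ⟨i + l, _, mul_mem (hnorm l y hy) hy', by rw [pow_add]; group⟩
      inv_mem' := by
        rintro _ ⟨i, y, hy, rfl⟩
        refine ⟨2 * i, _, hnorm (2 * i) _ (inv_mem hy), ?_⟩
        have e : d ^ i * d ^ (2 * i) = 1 := by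
          rw [← pow_add, show i + 2 * i = 3 * i by ring, pow_mul, hd3, one_pow]
        rw [_root_.mul_inv_rev, inv_eq_of_mul_eq_one_right e]; group }
  have hSK : D.HS S' ≤ K := fun y hy => ⟨0, y, hy, by simp⟩
  have hX : ∀ (i : ℕ), (X4 ^ i) • (eI 0 : Fin 4 → F) = ω ^ i • eI 0 ∧
      (X4 ^ i) • (eI 1 : Fin 4 → F) = (ω ^ i)⁻¹ • eI 1 := fun i => by
    rw [hX4, ← map_pow, ← map_pow, d2_pow hω, io, tri,
      bl_comp_apply (m := 0) (by norm_num) (by norm_num) rfl]
    exact ⟨bl_smul_eI (show 0 + 2 ≤ 4 by norm_num) (i := 0) (j := 0) (dg_smul_eI _ _ _ 0),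
      bl_smul_eI (show 0 + 2 ≤ 4 by norm_num) (i := 1) (j := 1) (dg_smul_eI _ _ _ 1)⟩
  have hθK : ∀ (Y : SU 4 F q) (c : F), Y • (eI 0 : Fin 4 → F) = c • eI 0 → D.θ Y ∈ K := fun Y c h => by
    obtain ⟨i, hi⟩ := R.gen c (ne_zero_of_norm (line_norm hF h))
    obtain ⟨Z, hZ⟩ := exists_bl hF (k := 1) (a := 3) (b := 4) (by norm_num) (g := (X4 ^ i)⁻¹ * Y) fun m hm => by
      obtain rfl : m = 0 := by omega
      rw [mul_smul, inv_smul_eq_iff, (hX i).1, h, hi]
    refine ⟨i, D.θ (bl 4 3 1 Z), D.HS_mono (Finset.erase_subset_erase _ fun x hx => ?_) (D.θ_tail hF Z), ?_⟩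
    · exact mem_I.2 (lt_of_lt_of_le (mem_I.1 hx) (by omega))
    · rw [hZ, map_mul, map_inv, map_pow, mul_inv_cancel_left]
  -- the element of order two
  set b4 := Glue.beta (show 4 ≤ 4 from le_rfl) with hb4
  set s := D.π (Glue.beta hn) with hsdef
  have hsθ : s = D.θ (permSU b4) := D.compatB.symm
  have hb0 : (permSU b4 : SU 4 F q) • (eI 0 : Fin 4 → F) = eI 1 := by
    rw [permSU_smul_eI, hb4]; exact congrArg eI (by decide)
  have hb1 : (permSU b4 : SU 4 F q) • (eI 1 : Fin 4 → F) = eI 0 := by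
    rw [permSU_smul_eI, hb4]; exact congrArg eI (by decide)
  have hb3 : (permSU b4 : SU 4 F q) • (eI 3 : Fin 4 → F) = eI 2 := by
    rw [permSU_smul_eI, hb4]; exact congrArg eI (by decide)
  have hsG : s ∈ G := hsθ ▸ h4G _
  let sG : G := ⟨s, hsG⟩
  have hs0 : φ' sG • (eI 0 : Fin (j + 5) → F) = eI 1 := by
    have := e4 (permSU b4) 0 1 1 (by rw [hb0, one_smul])
    rw [s40, s41, one_smul] at this
    convert this using 3
    exact Subtype.ext hsθ
  let KG : Subgroup G := K.comap G.subtype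
  have hmemK : ∀ x ∈ KG, ∃ i : ℕ, ∃ y : G, (y : H) ∈ D.HS S' ∧ (x : H) = d ^ i * y ∧
      φ' x = bl (j + 5) 4 0 (X4 ^ i) * φ' y := by
    intro x hx
    obtain ⟨i, y, hy, e⟩ := (show (x : H) ∈ K from hx)
    refine ⟨i, ⟨y, hS'G hy⟩, hy, e, ?_⟩
    have ex : x = ⟨D.θ (X4 ^ i), h4G _⟩ * ⟨y, hS'G hy⟩ := Subtype.ext (by
      rw [e]; show _ = D.θ (X4 ^ i) * y; rw [map_pow])
    rw [ex, map_mul, hφθ]
  have hline : ∀ i : ℕ, bl (j + 5) 4 0 (X4 ^ i) • (eI 0 : Fin (j + 5) → F) = ω ^ i • eI 0 := fun i => by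
    have := bl_smul_eI (show 0 + 4 ≤ j + 5 by omega) (hX i).1
    rwa [s40] at this
  have hzero : ∀ x ∈ KG, φ' x • (eI 0 : Fin (j + 5) → F) = eI 0 → (x : H) ∈ D.HS S' := by
    intro x hx h
    obtain ⟨i, y, hy, e, ex⟩ := hmemK x hx
    rw [ex, mul_smul, hfixS y hy, hline] at h
    have hi : ω ^ i = 1 := by simpa [eI] using congrFun h 0
    have hdi : d ^ i = 1 := by
      have e2 : (d2 ω hω : SU 2 F q) ^ i = 1 := by
        rw [d2_pow hω]
        refine eq_of_smul_eq_SU fun v => ?_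
        rw [d2, dg_smul, one_smul]
        funext l; fin_cases l <;> simp [hi]
      rw [hd, hX4, ← map_pow, ← map_pow, ← map_pow, e2, map_one, map_one, map_one]
    rwa [e, hdi, one_mul]
  have hlift : ∀ g : SU (j + 5) F q, g • (eI 0 : Fin (j + 5) → F) = eI 0 →
      ∃ y : G, (y : H) ∈ D.HS S' ∧ φ' y = g := by
    intro g hg
    obtain ⟨y, hy, e⟩ := gS'.2 (emap sh g) fun k hk => by
      by_cases hk' : k ∈ I n (j + 5)
      · obtain rfl : k = o := by
          by_contra h; exact hk (Finset.mem_erase.2 ⟨h, hk'⟩)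
        rw [← sh0]; exact back g 0 hg
      · exact emap_fix _ _ fun i e => hk' (e ▸ shI i)
    exact ⟨⟨y, hS'G hy⟩, hy, emap_injective sh (by rw [hφ', e])⟩
  -- two points removed
  set S'' := S'.erase (p3 hn 1) with hS''def
  have h1S' : p3 hn 1 ∈ S' := Finset.mem_erase.2
    ⟨fun e => absurd ((p3 hn).injective e) (by decide), mem_I.2 (by simp [shift_val])⟩
  have gS'' : D.Good S'' := IH S'' (by rw [hS''def, Finset.card_erase_of_mem h1S', hc']; omega)
    (by rw [hS''def, Finset.card_erase_of_mem h1S', hc']; omega)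
  have hβ : ∀ x ∈ S'', (((Glue.beta hn)⁻¹ : alternatingGroup (Fin n)) : Perm (Fin n)) x ∈ S'' := by
    intro x hx
    simp only [hS''def, hS'def, Finset.mem_erase, mem_I] at hx ⊢
    rw [Subgroup.coe_inv, show ((Glue.beta hn : alternatingGroup (Fin n)) : Perm (Fin n)) =
      swap (Glue.o0 hn) (Glue.o1 hn) * swap (Glue.o2 hn) (Glue.o3 hn) from rfl]
    have hx0 : x ≠ Glue.o0 hn := fun e => hx.2.1 (e.trans (Fin.ext (by simp [ho_def, shift_val])))
    have hx1 : x ≠ Glue.o1 hn := fun e => hx.1 (e.trans (Fin.ext (by simp [shift_val])))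
    rw [_root_.mul_inv_rev, swap_inv, swap_inv, Perm.mul_apply,
      swap_apply_of_ne_of_ne hx0 hx1]
    have h23 : swap (Glue.o2 hn) (Glue.o3 hn) x = Glue.o2 hn ∨ swap (Glue.o2 hn) (Glue.o3 hn) x = Glue.o3 hn ∨
        swap (Glue.o2 hn) (Glue.o3 hn) x = x := by
      rcases eq_or_ne x (Glue.o2 hn) with e | e
      · right; left; rw [e, swap_apply_left]
      rcases eq_or_ne x (Glue.o3 hn) with e' | e'
      · left; rw [e', swap_apply_right]
      right; right; exact swap_apply_of_ne_of_ne e e'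
    rcases h23 with e | e | e <;> rw [e]
    · simp [ho_def, Fin.ext_iff, shift_val]
    · simp [ho_def, Fin.ext_iff, shift_val]
    · exact hx
  have hstab : ∀ x ∈ KG, Par (φ' x • (eI 1 : Fin (j + 5) → F)) (eI 1) → sG⁻¹ * x * sG ∈ KG := by
    intro x hx ⟨c, hc⟩
    obtain ⟨i, y, hy, e, ex⟩ := hmemK x hx
    have hy1 : φ' y • (eI 1 : Fin (j + 5) → F) = (ω ^ i * c) • eI 1 := by
      have h1 := bl_smul_eI (show 0 + 4 ≤ j + 5 by omega) (hX i).2
      rw [s41] at h1
      rw [ex, mul_smul] at hc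
      have := congrArg (fun v => (bl (j + 5) 4 0 (X4 ^ i))⁻¹ • v) hc
      simp only [inv_smul_smul, lineSmul] at this
      have h2 : (bl (j + 5) 4 0 (X4 ^ i))⁻¹ • (eI 1 : Fin (j + 5) → F) = ω ^ i • eI 1 := by
        rw [inv_smul_eq_iff, lineSmul, h1, smul_smul, mul_inv_cancel₀ (pow_ne_zero _ (ne_zero_of_norm hω)), one_smul]
      rw [this, h2, smul_smul, mul_comm]
    obtain ⟨l, hl⟩ := R.gen (ω ^ i * c) (ne_zero_of_norm (line_norm hF hy1))
    set E : SU 4 F q := bl 4 2 1 (d2 ω hω ^ l) with hE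
    have hE1 : E • (eI 1 : Fin 4 → F) = ω ^ l • eI 1 := by
      rw [hE, d2_pow hω]
      exact bl_smul_eI (show 1 + 2 ≤ 4 by norm_num) (i := 0) (j := 0) (dg_smul_eI _ _ _ 0)
    have hE0 : E • (eI 0 : Fin 4 → F) = eI 0 := bl_fix hF (by norm_num) _ (Or.inl (by simp))
    have hES : D.θ E ∈ D.HS S' := by
      obtain ⟨Z, hZ⟩ := exists_bl hF (k := 1) (a := 3) (b := 4) (by norm_num) (g := E) fun m hm => by
        obtain rfl : m = 0 := by omega
        exact hE0
      rw [← hZ]
      exact D.HS_mono (Finset.erase_subset_erase _ fun x hx => mem_I.2 (lt_of_lt_of_le (mem_I.1 hx) (by omega)))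
        (D.θ_tail hF Z)
    set y'' : G := ⟨D.θ E, hS'G hES⟩⁻¹ * y with hy''
    have hy''S : (y'' : H) ∈ D.HS S' := mul_mem (inv_mem hES) hy
    have f1 : φ' y'' • (eI 1 : Fin (j + 5) → F) = eI 1 := by
      have := e4 E 1 1 (ω ^ l) hE1
      rw [s41] at this
      rw [hy'', map_mul, map_inv, mul_smul, hy1, ← hl, inv_smul_eq_iff]
      exact this.symm
    obtain ⟨z, hz, ez⟩ := gS''.2 (D.φ y'') fun k hk => by
      by_cases hk' : k ∈ S'
      · obtain rfl : k = p3 hn 1 := by
          by_contra h; exact hk (Finset.mem_erase.2 ⟨h, hk'⟩)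
        rw [← hφ', ← sh1]; exact back _ 1 f1
      · exact D.φ_fix hy''S hk'
    have hzy : (y'' : H) = z := gS'.eq D hy''S (D.HS_mono (Finset.erase_subset _ _) hz) ez.symm
    show s⁻¹ * (x : H) * s ∈ K
    have hy_eq : (y : H) = D.θ E * z := by rw [← hzy, hy'']; show _ = D.θ E * ((D.θ E)⁻¹ * y); group
    rw [e, hy_eq, show s⁻¹ * (d ^ i * (D.θ E * z)) * s = (s⁻¹ * d ^ i * D.θ E * s) * (s⁻¹ * z * s) by group]
    refine mul_mem ?_ (hSK (D.HS_mono (Finset.erase_subset (p3 hn 1) S') ?_))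
    · rw [hsθ, hd, ← map_pow, ← map_inv, ← map_mul, ← map_mul, ← map_mul]
      refine hθK _ ((ω ^ i)⁻¹ * ω ^ l) ?_
      rw [mul_smul, hb0, mul_smul, mul_smul, hE1, lineSmul, (hX i).2, lineSmul, lineSmul, smul_smul, mul_comm]
      congr 1
      rw [inv_smul_eq_iff, hb0]
    · have := D.conj_mem hβ hz
      rwa [map_inv, inv_inv] at this
  -- the triangle
  obtain ⟨A, hA, hAe⟩ := exists_fixS_one hF (n := 4) (S := {0}) (by decide) (x := eI 1) (x' := eI 3)
    (eI_mem_supp (by decide)) (fun m hm => by rw [Finset.mem_singleton.1 hm]; simp [eI])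
    (by rw [herm_eI_eI hF, if_pos rfl]) (by rw [herm_eI_eI hF, if_pos rfl])
  have hA0 : A • (eI 0 : Fin 4 → F) = eI 0 := mem_fixS.1 hA 0 (by simp)
  have hAK : D.θ A ∈ K := hθK A 1 (by rw [hA0, one_smul])
  set K1 : SU 4 F q := bl 4 2 1 (W hF) with hK1
  have hK10 : K1 • (eI 0 : Fin 4 → F) = eI 0 := bl_fix hF (by norm_num) _ (Or.inl (by simp))
  have hK11 : K1 • (eI 1 : Fin 4 → F) = eI 2 := by
    have := bl_smul_eI (show 1 + 2 ≤ 4 by norm_num) (W_smul hF).1
    rw [one_smul] at this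
    exact this
  have htri : ∃ k1 ∈ KG, φ' k1 • (eI 1 : Fin (j + 5) → F) = eI 2 ∧
      ∃ x ∈ KG, ∃ y ∈ KG, sG⁻¹ * k1 * sG = x * sG * y := by
    refine ⟨⟨D.θ K1, h4G _⟩, hθK K1 1 (by rw [hK10, one_smul]), ?_, ⟨D.θ A, h4G _⟩, hAK,
      ⟨D.θ ((A * permSU b4)⁻¹ * ((permSU b4)⁻¹ * K1 * permSU b4)), h4G _⟩, hθK _ 1 ?_, Subtype.ext ?_⟩
    · have := e4 K1 1 2 1 (by rw [hK11, one_smul])
      rwa [s41, s42, one_smul] at this
    · rw [one_smul, mul_smul, inv_smul_eq_iff, mul_smul, mul_smul, mul_smul, hb0, hAe, hK11, inv_smul_eq_iff, hb3]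
    · show s⁻¹ * D.θ K1 * s = D.θ A * s * D.θ _
      rw [hsθ]; simp only [← map_inv, ← map_mul]
      congr 1; group
  -- the base point
  set v : Fin 4 → F := ![1, 1, 1, 0] with hv
  have hvv : herm q v v = 1 := by
    rw [herm, hermForm, Fin.sum_univ_four]
    simp [hv, one_pow, zero_pow_q hF]
    linear_combination two_eq_zero hF hq
  obtain ⟨B, hB, hBe⟩ := exists_fixS_one hF (n := 4) (S := {0}) (by decide) (x := eI 1)
    (x' := (A * permSU b4)⁻¹ • v) (eI_mem_supp (by decide)) (fun m hm => by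
      rw [Finset.mem_singleton.1 hm, ← herm_eI_right hF 0 (_ • v), ← herm_smul_SU (A * permSU b4), smul_inv_smul,
        mul_smul, hb0, hAe, herm_eI_right hF]
      rfl) (by rw [herm_eI_eI hF, if_pos rfl]) (by rw [herm_smul_SU, hvv])
  have hB0 : B • (eI 0 : Fin 4 → F) = eI 0 := mem_fixS.1 hB 0 (by simp)
  set Z := A * permSU b4 * (B * permSU b4) with hZdef
  have hZ0 : Z • (eI 0 : Fin 4 → F) = v := by
    rw [hZdef, mul_smul, mul_smul B, hb0, hBe, smul_inv_smul]
  have hT0 : (tri t : SU 4 F q) • (eI 0 : Fin 4 → F) = v := by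
    refine ext_parts (shift 0 (show 0 + 3 ≤ 4 by norm_num)) (fun m => ?_) fun m hm => ?_
    · rw [tri, bl_smul_in (show 0 + 3 ≤ 4 by norm_num), show (eI 0 : Fin 4 → F) ∘ shift 0 (show 0 + 3 ≤ 4 by norm_num) =
        eI 0 from funext fun l => by fin_cases l <;> simp [eI, shift, Pi.single_apply], R.top]
      fin_cases m <;> rfl
    · rw [tri, bl_eq (show 0 + 3 ≤ 4 by norm_num), emap_off _ _ _ hm]
      have : m = 3 := by
        by_contra h
        exact hm ⟨m, by omega⟩ (Fin.ext (by simp [shift_val]))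
      subst this
      rfl
  set R4 := (tri t)⁻¹ * Z with hR4
  have hR40 : R4 • (eI 0 : Fin 4 → F) = eI 0 := by rw [hR4, mul_smul, inv_smul_eq_iff, hZ0, hT0]
  have hRK : D.θ R4 ∈ K := hθK R4 1 (by rw [hR40, one_smul])
  have hbase : ∃ a ∈ KG, ∃ b ∈ KG, φ' (a * sG) • (eI 0 : Fin (j + 5) → F) = eI 3 ∧
      φ' (a * sG * (b * sG)) • (eI 0 : Fin (j + 5) → F) = v0 (1 : F) ∧
      ∀ g ∈ (fixS {0, 1, 2} : Subgroup (SU (j + 5) F q)), ∀ x ∈ KG, φ' x = g →
        (a * sG * (b * sG))⁻¹ * x * (a * sG * (b * sG)) ∈ KG := by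
    refine ⟨⟨D.θ A, h4G _⟩, hAK, ⟨D.θ B, h4G _⟩, hθK B 1 (by rw [hB0, one_smul]), ?_, ?_, fun g hg x hx hxg => ?_⟩
    · have := e4 A 1 3 1 (by rw [hAe, one_smul])
      rw [s41, s43, one_smul] at this
      rw [map_mul, mul_smul, hs0, this]
    · rw [show (⟨D.θ A, h4G _⟩ * sG * (⟨D.θ B, h4G _⟩ * sG) : G) = ⟨D.θ Z, h4G _⟩ from Subtype.ext (by
        show D.θ A * s * (D.θ B * s) = D.θ Z
        rw [hsθ, hZdef, map_mul, map_mul, map_mul]), hφθ]
      refine ext_parts (shift 0 (show 0 + 4 ≤ j + 5 by omega)) (fun m => ?_) fun m hm => ?_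
      · rw [bl_smul_in (show 0 + 4 ≤ j + 5 by omega),
          show (eI 0 : Fin (j + 5) → F) ∘ shift 0 (show 0 + 4 ≤ j + 5 by omega) = eI 0 from funext fun l => by
            fin_cases l <;> simp [eI, Pi.single_apply, Fin.ext_iff, shift_val], hZ0]
        fin_cases m <;> simp [v0, eI, hv, Pi.single_apply, Fin.ext_iff, shift_val, Nat.mod_eq_of_lt]
      · rw [bl_eq (show 0 + 4 ≤ j + 5 by omega), emap_off _ _ _ hm]
        have h0 : m ≠ 0 := fun e => hm 0 (by rw [s40, e])
        have h1 : m ≠ 1 := fun e => hm 1 (by rw [s41, e])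
        have h2 : m ≠ 2 := fun e => hm 2 (by rw [s42, e])
        simp [v0, eI, h0, h1, h2]
    · show (D.θ A * s * (D.θ B * s))⁻¹ * (x : H) * (D.θ A * s * (D.θ B * s)) ∈ K
      rw [show D.θ A * s * (D.θ B * s) = D.θ (tri t) * D.θ R4 by
        rw [hsθ, hR4, ← map_mul, ← map_mul, ← map_mul, ← map_mul, mul_inv_cancel_left, hZdef]]
      have hxS : (x : H) ∈ D.HS S' := hzero x hx (by rw [hxg]; exact mem_fixS.1 hg 0 (by simp))
      have hcomm : Commute (D.θ (tri t)) (x : H) := by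
        have hfix : ∀ k : Fin n, ¬(3 ≤ (k : ℕ) ∧ (k : ℕ) < j + 5) → D.φ (x : H) • (eI k : Fin n → F) = eI k := by
          intro k hk
          by_cases hk' : k ∈ I n (j + 5)
          · obtain ⟨i, rfl⟩ := mem_sh hk'
            rw [← hφ', hxg]
            refine back g i (mem_fixS.1 hg i ?_)
            have := i.isLt
            rw [hsh, shift_val] at hk
            simp only [Finset.mem_insert, Finset.mem_singleton, Fin.ext_iff, Fin.val_zero, Fin.val_one, Fin.val_two]
            omega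
          · exact D.φ_fix x.2 hk'
        set T : Finset (Fin n) := Finset.filter (fun k : Fin n => 3 ≤ (k : ℕ)) (I n (j + 5)) with hT
        have hTS : T ⊆ S' := fun k hk => by
          rw [hT, Finset.mem_filter] at hk
          exact Finset.mem_erase.2 ⟨fun e => by rw [e] at hk; simp [ho_def, shift_val] at hk, hk.1⟩
        have hTfix : ∀ k ∉ T, D.φ (x : H) • (eI k : Fin n → F) = eI k := fun k hk => hfix k fun h =>
          hk (Finset.mem_filter.2 ⟨mem_I.2 h.2, h.1⟩)
        rcases Nat.eq_zero_or_pos j with hj | hj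
        · obtain ⟨σ, u0, u1, -⟩ := exists_place (hn := hn) (⟨3, by omega⟩ : Fin n) ⟨4, by omega⟩ (p3 hn 2)
            (by simp [Fin.ext_iff]) (by simp [Fin.ext_iff, shift_val]) (by simp [Fin.ext_iff, shift_val]) hn5
          obtain ⟨X, hX'⟩ := emb_of_phi hF hTfix ((shift 0 (show 0 + 2 ≤ n by omega)).trans ((σ : Perm (Fin n)).toEmbedding))
            fun k hk => by
              rw [hT, Finset.mem_filter, mem_I] at hk
              rcases (show (k : ℕ) = 3 ∨ (k : ℕ) = 4 by omega) with e | e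
              · exact ⟨0, u0.trans (Fin.ext e.symm)⟩
              · exact ⟨1, u1.trans (Fin.ext e.symm)⟩
          have h34 : ∀ a, 3 ≤ a → (ha : a < j + 5) → (⟨a, by omega⟩ : Fin n) ∈ S' := fun a h3 ha =>
            hTS (Finset.mem_filter.2 ⟨mem_I.2 ha, h3⟩)
          rw [gS'.eq D hxS (D.pair_mem hF (by omega) (u0 ▸ h34 3 le_rfl (by omega))
            (u1 ▸ h34 4 (by omega) (by omega)) X) (by rw [φ_pair, hX']), ← D.ψ_one t]
          refine (D.comm_pair hF hq R (fun i => ?_) X t).symm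
          rw [u0, u1]
          constructor <;> simp [Fin.ext_iff, shift_val] <;> omega
        · have hT3 : 3 ≤ T.card := by
            have : (Finset.univ.map (shift 3 (show 3 + 3 ≤ n by omega))) ⊆ T := fun k hk => by
              obtain ⟨i, -, rfl⟩ := Finset.mem_map.1 hk
              rw [hT, Finset.mem_filter, mem_I, shift_val]; omega
            simpa using Finset.card_le_card this
          have gT : D.Good T := IH T hT3 (by
            have := Finset.card_le_card hTS
            omega)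
          obtain ⟨x', hx', e'⟩ := gT.2 _ hTfix
          rw [gS'.eq D hxS (D.HS_mono hTS hx') e'.symm]
          have hle : D.HS T ≤ Subgroup.centralizer {D.θ (tri t)} := D.HS_le fun σ hσ Y => by
            rw [Subgroup.mem_centralizer_singleton_iff]
            refine (D.comm_six hF hq R (fun i l e => ?_) t Y).eq.symm
            have := (Finset.mem_filter.1 (hσ i)).2
            rw [e, shift_val] at this; omega
          exact (Subgroup.mem_centralizer_singleton_iff.1 (hle hx')).symm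
      rw [_root_.mul_inv_rev, show (D.θ R4)⁻¹ * (D.θ (tri t))⁻¹ * (x : H) * (D.θ (tri t) * D.θ R4) =
        (D.θ R4)⁻¹ * ((D.θ (tri t))⁻¹ * ((x : H) * D.θ (tri t))) * D.θ R4 by group, ← hcomm.eq, inv_mul_cancel_left]
      exact mul_mem (mul_mem (inv_mem hRK) (hSK hxS)) hRK
  -- generation
  have hgen : Subgroup.closure ((KG : Set G) ∪ {sG}) = ⊤ := by
    set P := (Subgroup.closure ((KG : Set G) ∪ {sG})).map G.subtype with hP
    have hKP : ∀ x ∈ D.HS S', x ∈ P := fun x hx =>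
      ⟨⟨x, hS'G hx⟩, Subgroup.subset_closure (Or.inl (hSK hx)), rfl⟩
    have hsP : s ∈ P := ⟨sG, Subgroup.subset_closure (Or.inr rfl), rfl⟩
    have hπ : ∀ τ : alternatingGroup (Fin n), (τ : Perm (Fin n)) ∈ altOn S' → D.π τ ∈ P := fun τ hτ =>
      hKP _ (D.π_mem (by omega) hτ)
    have hout : ∀ σ, In hn σ (I n (j + 5)) → (∀ i, (σ : Perm (Fin n)) (p3 hn i) ≠ p3 hn 1) → ∀ Y, D.ψ σ Y ∈ P := by
      intro σ hσ h1 Y
      have hm : D.ψ (Glue.beta hn * σ) Y ∈ P := hKP _ (D.ψ_mem (fun i => by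
        rw [Subgroup.coe_mul, Perm.mul_apply]
        refine Finset.mem_erase.2 ⟨fun e => h1 i ((Glue.beta hn : Perm (Fin n)).injective
          (e.trans (beta_o1 hn).symm)), ?_⟩
        have := mem_I.1 (hσ i)
        generalize (σ : Perm (Fin n)) (p3 hn i) = k at this
        show swap (Glue.o0 hn) (Glue.o1 hn) (swap (Glue.o2 hn) (Glue.o3 hn) k) ∈ _
        rw [mem_I, Equiv.swap_apply_def, Equiv.swap_apply_def]
        split_ifs <;> first | omega | (simp; done) | (simp; omega)) Y)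
      rw [← D.ψ_conj] at hm
      have := mul_mem (mul_mem (inv_mem hsP) hm) hsP
      simpa [hsdef, mul_assoc] using this
    have hle : G ≤ P := D.HS_le fun σ hσ Y => by
      by_cases h0 : ∃ i, (σ : Perm (Fin n)) (p3 hn i) = o
      · by_cases h1 : ∃ i, (σ : Perm (Fin n)) (p3 hn i) = p3 hn 1
        · obtain ⟨i1, hi1⟩ := h1
          set T := Finset.univ.map ((p3 hn).trans ((σ : Perm (Fin n)).toEmbedding)) with hT
          have hTm : ∀ i, (σ : Perm (Fin n)) (p3 hn i) ∈ T := fun i => Finset.mem_map.2 ⟨i, Finset.mem_univ _, rfl⟩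
          have hcard : 1 < (S' \ T).card := by
            have h2 : (S' ∩ T).card ≤ 2 := by
              have hsub : S' ∩ T ⊆ T.erase o := fun k hk => by
                rw [Finset.mem_inter] at hk
                exact Finset.mem_erase.2 ⟨fun e => ho (e ▸ hk.1), hk.2⟩
              refine (Finset.card_le_card hsub).trans ?_
              obtain ⟨i0, hi0⟩ := h0
              rw [Finset.card_erase_of_mem (hi0 ▸ hTm i0), hT, Finset.card_map, Finset.card_univ, Fintype.card_fin]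
            have := Finset.card_sdiff_add_card_inter S' T
            omega
          obtain ⟨e, he, g, hg, heg⟩ := Finset.one_lt_card.mp hcard
          rw [Finset.mem_sdiff] at he hg
          have n1e : p3 hn 1 ≠ e := fun h => he.2 (h ▸ hi1 ▸ hTm i1)
          have n1g : p3 hn 1 ≠ g := fun h => hg.2 (h ▸ hi1 ▸ hTm i1)
          let τ : alternatingGroup (Fin n) := ⟨cyc3 (p3 hn 1) e g,
            Perm.mem_alternatingGroup.mpr (cyc3_mem_altOn n1e heg h1S' he.1 hg.1).1⟩
          have hτ : (τ : Perm (Fin n)) ∈ altOn S' := cyc3_mem_altOn n1e heg h1S' he.1 hg.1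
          have hmv : ∀ i, (σ : Perm (Fin n)) (p3 hn i) ≠ g := fun i h => hg.2 (h ▸ hTm i)
          have hm : D.ψ (τ * σ) Y ∈ P := hout _ (fun i => by
              rw [Subgroup.coe_mul, Perm.mul_apply]
              rcases eq_or_ne ((σ : Perm (Fin n)) (p3 hn i)) o with h | h
              · rw [h, hτ.2 o ho]; exact hoI
              · by_contra hk
                have h' : (τ : Perm (Fin n)) ((σ : Perm (Fin n)) (p3 hn i)) ∉ S' := fun h' => hk (Finset.mem_of_mem_erase h')
                have := hτ.2 _ h'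
                rw [(τ : Perm (Fin n)).injective this] at hk
                exact hk (hσ i))
            (fun i h => by
              rw [Subgroup.coe_mul, Perm.mul_apply] at h
              exact hmv i ((τ : Perm (Fin n)).injective (h.trans (cyc3_right : cyc3 (p3 hn 1) e g g = _).symm))) Y
          rw [← D.ψ_conj] at hm
          have := mul_mem (mul_mem (inv_mem (hπ τ hτ)) hm) (hπ τ hτ)
          simpa [mul_assoc] using this
        · push Not at h1
          exact hout σ hσ h1 Y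
      · push Not at h0
        exact hKP _ (D.ψ_mem (fun i => Finset.mem_erase.2 ⟨h0 i, hσ i⟩) Y)
    rw [eq_top_iff]
    rintro x -
    obtain ⟨x', hx', e⟩ := hle x.2
    rwa [← show x' = x from Subtype.ext e]
  have C : Cov φ' KG sG (1 : F) := {
    inj := fun x hx hx1 => Subtype.ext (gS'.1 _ (hzero x hx (by rw [hx1, one_smul]))
      (by rw [← hφ', hx1, map_one]))
    mem := fun x hx => by
      obtain ⟨i, y, hy, e, ex⟩ := hmemK x hx
      exact ⟨ω ^ i, by rw [ex, mul_smul, hfixS y hy, hline]⟩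
    lift := fun g hg => by
      obtain ⟨c, hc⟩ := hg
      obtain ⟨i, hi⟩ := R.gen c (ne_zero_of_norm (line_norm hF hc))
      obtain ⟨y, hy, ey⟩ := hlift ((bl (j + 5) 4 0 (X4 ^ i))⁻¹ * g) (by
        rw [mul_smul, inv_smul_eq_iff, hc, hline, hi])
      refine ⟨⟨D.θ (X4 ^ i), h4G _⟩ * y, ?_, by rw [map_mul, hφθ, ey, mul_inv_cancel_left]⟩
      exact ⟨i, y, hy, by show D.θ (X4 ^ i) * (y : H) = _; rw [map_pow]⟩
    s0 := hs0
    ss := by
      show s * s ∈ K
      rw [hsθ, ← map_mul, ← map_mul]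
      exact hθK _ 1 (by rw [one_smul, map_mul, mul_smul, hb0, hb1])
    stab := hstab
    tri := htri
    norm := by rw [one_pow, neg_eq_self hF hq]
    base := hbase
    gen := hgen }
  refine ⟨fun x hx hx1 => ?_, fun g hg => ?_⟩
  · have := cov_injective C hF ⟨x, hx⟩ (emap_injective sh (by rw [hφ', map_one]; exact hx1))
    exact congrArg Subtype.val this
  · obtain ⟨Y, hY⟩ := emb_of_phi hF hg sh fun _ => mem_sh
    have hM : Y ∈ φ'.range := mem_of_swap hF (M := φ'.range) (fun g hg => by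
      obtain ⟨y, -, ey⟩ := hlift g (mem_fixS.1 hg 0 (by simp))
      exact ⟨y, ey⟩) (s := φ' sG) ⟨sG, rfl⟩ hs0 Y
    obtain ⟨x, rfl⟩ := hM
    exact ⟨x.1, x.2, by rw [← hφ', hY]⟩

/-- Every point set of size at least three. -/
theorem good_all (hq : q = 2) (R : D.Far ω hω t) (S : Finset (Fin n)) (h : 3 ≤ S.card) : D.Good S := by
  induction hk : S.card using Nat.strong_induction_on generalizing S with
  | _ k ih =>
    subst hk
    rcases (show S.card = 3 ∨ S.card = 4 ∨ 5 ≤ S.card by omega) with e | e | e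
    · exact D.good3 hF S e
    · exact D.good4 hF S e
    · obtain ⟨j, hj⟩ : ∃ j, S.card = j + 5 := ⟨S.card - 5, by omega⟩
      have hN : j + 5 ≤ n := hj ▸ (by simpa using Finset.card_le_univ S)
      exact D.good_of_card (by omega) (D.good_step hF hq R j hN fun T h3 hlt => ih T.card (by omega) T h3 rfl) S hj

end G2

end Cfsg.Agent.KSG55.U6
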